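import Cfsg.Agent.PushUp.Ctx

/-!
Baumann's argument: either `Z(S)` is central, or the part of `S` centralising `Z(J(S))` is normal, or a
largest abelian subgroup of `S` induces a whole root group on the module generated by `Z(S)`.
-/

set_option autoImplicit false
set_option linter.style.haveILetI false
set_option linter.unusedSectionVars false

namespace Cfsg.Lib.PushUp

open Subgroup
open scoped commutatorElement
open Cfsg.Lib.Fusion (maxAb)

universe u v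

variable {p : ℕ} [hp : Fact p.Prime] {G : Type u} [Group G] [Finite G] {F : Type v} [Field F] [Fintype F]

theorem maxAb_conj {Q T A : Subgroup G} [Q.Normal] (hQT : Q ≤ T) (hA : A ∈ maxAb T) (hAQ : A ≤ Q) (g : G) :
    A.map (MulAut.conj g).toMonoidHom ∈ maxAb T := by
  obtain ⟨-, hc, hmax⟩ := hA
  haveI := hc
  refine ⟨fun x hx => ?_, inferInstance, fun A' h1 h2 => (hmax A' h1 h2).trans ?_⟩
  · obtain ⟨a, ha, rfl⟩ := hx
    exact hQT ((inferInstance : Q.Normal).conj_mem a (hAQ ha) g)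
  · rw [card_map_of_injective (MulAut.conj g).injective]

theorem comm_of {X : Subgroup G} (h : IsMulCommutative X) {x y : G} (hx : x ∈ X) (hy : y ∈ X) : x * y = y * x :=
  congrArg Subtype.val (h.is_comm.comm ⟨x, hx⟩ ⟨y, hy⟩)

theorem comm_sup {X Y : Subgroup G} (h : X ⊔ Y ≤ centralizer (X : Set G) ⊓ centralizer (Y : Set G)) :
    IsMulCommutative ↥(X ⊔ Y) := by
  have h' : X ⊔ Y ≤ centralizer ((X ⊔ Y : Subgroup G) : Set G) :=
    sup_le (le_centralizer_iff.1 (h.trans inf_le_left)) (le_centralizer_iff.1 (h.trans inf_le_right))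
  exact ⟨⟨fun a b => Subtype.ext (mem_centralizer_iff.1 (h' b.2) a a.2)⟩⟩

/-- the elements of order dividing `p` of an abelian subgroup -/
def omegaSub (p : ℕ) (V : Subgroup G) (h : IsMulCommutative V) : Subgroup G where
  carrier := {v | v ∈ V ∧ v ^ p = 1}
  mul_mem' := fun {a b} ha hb => ⟨mul_mem ha.1 hb.1, by
    rw [(show Commute a b from comm_of h ha.1 hb.1).mul_pow, ha.2, hb.2, mul_one]⟩
  one_mem' := ⟨one_mem _, one_pow _⟩
  inv_mem' := fun {a} ha => ⟨inv_mem ha.1, by rw [inv_pow, ha.2, inv_one]⟩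

namespace Ctx

variable (c : Ctx p G F)

/-- `Z(S)` -/
abbrev Zs : Subgroup G := (c.S : Subgroup G) ⊓ centralizer ((c.S : Subgroup G) : Set G)

/-- `Z(J(S))` -/
abbrev Zj : Subgroup G := Cfsg.centerThompsonAOf (c.S : Subgroup G)

/-- the closure of `Z(S)` -/
abbrev Vc : Subgroup G := normalClosure (c.Zs : Set G)

theorem Zs_le_core : c.Zs ≤ Cfsg.pCore p G := fun _ hz =>
  c.hc (mem_centralizer_iff.2 fun q hq => mem_centralizer_iff.1 hz.2 q (c.core_le hq))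

theorem Vc_le : c.Vc ≤ Cfsg.pCore p G ⊓ centralizer (Cfsg.pCore p G : Set G) := by
  haveI := c.core_normal
  exact normalClosure_le_normal fun z hz => ⟨c.Zs_le_core hz,
    mem_centralizer_iff.2 fun q hq => mem_centralizer_iff.1 (mem_inf.1 hz).2 q (c.core_le hq)⟩

theorem Vc_comm : IsMulCommutative c.Vc :=
  ⟨⟨fun a b => Subtype.ext (mem_centralizer_iff.1 (c.Vc_le b.2).2 a (c.Vc_le a.2).1)⟩⟩

theorem le_Zj {x : G} (hJ : x ∈ Cfsg.thompsonSubgroupAOf (c.S : Subgroup G))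
    (h : ∀ A ∈ maxAb (c.S : Subgroup G), ∀ a ∈ A, a * x = x * a) : x ∈ c.Zj := by
  refine mem_inf.2 ⟨hJ, ?_⟩
  have : Cfsg.thompsonSubgroupAOf (c.S : Subgroup G) ≤ centralizer ({x} : Set G) := by
    rw [Cfsg.Lib.Fusion.thompsonAOf_eq]
    exact sSup_le fun A hA a ha => mem_centralizer_singleton_iff.2 (h A hA a ha)
  exact mem_centralizer_iff.2 fun j hj => mem_centralizer_singleton_iff.1 (this hj)

theorem Zj_comm {x : G} (hx : x ∈ c.Zj) {A : Subgroup G} (hA : A ∈ maxAb (c.S : Subgroup G)) {a : G}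
    (ha : a ∈ A) : a * x = x * a := by
  refine mem_centralizer_iff.1 (mem_inf.1 hx).2 a ?_
  rw [Cfsg.Lib.Fusion.thompsonAOf_eq]
  exact le_sSup hA ha

theorem Zj_le_mem {A : Subgroup G} (hA : A ∈ maxAb (c.S : Subgroup G)) : c.Zj ≤ A := by
  intro x hx
  haveI := hA.2.1
  have hxS : x ∈ (c.S : Subgroup G) := Cfsg.Lib.Fusion.thompsonAOf_le _ (mem_inf.1 hx).1
  have hcomm : IsMulCommutative ↥(A ⊔ zpowers x) := comm_sup (by
    refine sup_le ?_ ?_
    · intro a ha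
      refine mem_inf.2 ⟨mem_centralizer_iff.2 fun b hb => comm_of hA.2.1 hb ha,
        mem_centralizer_iff.2 fun b hb => ?_⟩
      obtain ⟨k, rfl⟩ := mem_zpowers_iff.1 hb
      exact (((show Commute a x from c.Zj_comm hx hA ha).zpow_right k).symm).eq
    · rw [zpowers_le]
      exact mem_inf.2 ⟨mem_centralizer_iff.2 fun b hb => c.Zj_comm hx hA hb,
        mem_centralizer_iff.2 fun b hb => by
          obtain ⟨k, rfl⟩ := mem_zpowers_iff.1 hb
          exact (((Commute.refl x).zpow_left k)).eq⟩)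
  have := Subgroup.eq_of_le_of_card_ge (le_sup_left : A ≤ A ⊔ zpowers x)
    (hA.2.2 _ (sup_le hA.1 (zpowers_le.2 hxS)) hcomm)
  exact this.ge (mem_sup_right (mem_zpowers x))

theorem Zs_le_Zj : c.Zs ≤ c.Zj := fun z hz =>
  c.le_Zj (Cfsg.Lib.Fusion.center_le_thompsonAOf hz) fun _ hA a ha =>
    mem_centralizer_iff.1 (mem_inf.1 hz).2 a (hA.1 ha)

theorem Zs_central_of {N : Subgroup G} [N.Normal] (hN : ¬ N ≤ c.M)
    (h : ∀ g ∈ N, ∀ z ∈ c.Zs, g * z = z * g) : c.Zs ≤ center G := fun z hz =>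
  c.central_of_le hN (fun g hg => h g hg z hz) fun g hg => mem_centralizer_iff.1 (mem_inf.1 hz).2 g hg

/-- the remaining case -/
structure Case (A : Subgroup G) : Prop where
  hA : A ∈ maxAb (c.S : Subgroup G)
  hAQ : ¬ A ≤ Cfsg.pCore p G
  hCV : centralizer (c.Vc : Set G) ≤ c.M

theorem cases :
    c.Zs ≤ center G ∨ ((c.S : Subgroup G) ⊓ centralizer (c.Zj : Set G)).Normal ∨ ∃ A, c.Case A := by
  haveI := c.core_normal
  by_cases hCV : centralizer (c.Vc : Set G) ≤ c.M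
  swap
  · exact Or.inl (c.Zs_central_of hCV fun g hg z hz =>
      (mem_centralizer_iff.1 hg z (Subgroup.le_normalClosure hz)).symm)
  by_cases hAQ : ∃ A ∈ maxAb (c.S : Subgroup G), ¬ A ≤ Cfsg.pCore p G
  · obtain ⟨A, hA, hA'⟩ := hAQ
    exact Or.inr (Or.inr ⟨A, hA, hA', hCV⟩)
  push Not at hAQ
  set J := Cfsg.thompsonSubgroupAOf (c.S : Subgroup G) with hJ
  haveI hJn : J.Normal := by
    refine ⟨fun x hx g => ?_⟩
    have h1 : J.map (MulAut.conj g).toMonoidHom ≤ J := by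
      conv_lhs => rw [hJ, Cfsg.Lib.Fusion.thompsonAOf_eq]
      rw [(gc_map_comap _).l_sSup]
      refine iSup₂_le fun A hA => ?_
      rw [hJ, Cfsg.Lib.Fusion.thompsonAOf_eq]
      exact le_sSup (maxAb_conj c.core_le hA (hAQ A hA) g)
    exact h1 (mem_map_of_mem _ hx)
  haveI : (centralizer (J : Set G)).Normal := inferInstance
  haveI : c.Zj.Normal := inferInstanceAs (J ⊓ centralizer (J : Set G)).Normal
  haveI : (centralizer (c.Zj : Set G)).Normal := inferInstance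
  by_cases hN : centralizer (c.Zj : Set G) ≤ c.M
  · right; left
    have : (c.S : Subgroup G) ⊓ centralizer (c.Zj : Set G) = Cfsg.pCore p G ⊓ centralizer (c.Zj : Set G) :=
      le_antisymm (le_inf (c.inf_le_core _ hN) inf_le_right) (inf_le_inf_right _ c.core_le)
    rw [this]
    exact inferInstance
  · exact Or.inl (c.Zs_central_of hN fun g hg z hz => (mem_centralizer_iff.1 hg z (c.Zs_le_Zj hz)).symm)

namespace Case

variable {c} {A : Subgroup G} (h : c.Case A)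

include h

theorem exists_outside : ∃ a ∈ A, a ∉ Cfsg.pCore p G := SetLike.not_le_iff_exists.1 h.hAQ

/-- the elements of order dividing `p` of `V` -/
abbrev W (_ : c.Case A) : Subgroup G := omegaSub p c.Vc c.Vc_comm

theorem W_normal : h.W.Normal :=
  ⟨fun w hw g => ⟨(inferInstance : c.Vc.Normal).conj_mem w hw.1 g, by rw [conj_pow, hw.2, mul_one, mul_inv_cancel]⟩⟩

theorem W_elem : Cfsg.IsElementaryAbelian p h.W :=
  ⟨⟨⟨fun a b => Subtype.ext (comm_of c.Vc_comm a.2.1 b.2.1)⟩⟩, fun _ hx => hx.2⟩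

theorem W_cent : centralizer (h.W : Set G) ≤ c.M := by
  haveI := h.W_normal
  by_contra hne
  haveI : (centralizer (h.W : Set G)).Normal := inferInstance
  have hpV : IsPGroup p c.Vc :=
    (Cfsg.Lib.Components.pCore_normal_and_isPGroup p).2.to_le (c.Vc_le.trans inf_le_left)
  haveI : (centralizer (c.Vc : Set G)).Normal := inferInstance
  have hp' : ∀ g : G, (orderOf g).Coprime p → g ∈ centralizer (c.Vc : Set G) := fun g hg =>
    mem_centralizer_iff.2 fun v hv => (commute_of_fix_omega c.Vc c.Vc_comm hpV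
      ((normalizer_eq_top (H := c.Vc)).ge (mem_top g)) hg
      (fun w hw hw1 => (mem_centralizer_iff.1 (c.mem_of_coprime hne hg) w ⟨hw, hw1⟩).symm) hv).symm
  have h1 := sup_sylow_eq_top _ c.S hp'
  refine c.hMne (top_le_iff.1 (h1.ge.trans (sup_le h.hCV ?_)))
  exact c.le_M _ (fun hS => h.hAQ (h.hA.1.trans (le_top.trans (by
    haveI : (c.S : Subgroup G).Normal := by rw [hS]; infer_instance
    exact hS.ge.trans (c.le_core c.S.2))))) le_rfl

theorem main :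
    Nat.card c.Vc = p ^ c.n * Nat.card c.Zs ∧
    Nat.card h.W = p ^ c.n * Nat.card ↥(h.W ⊓ c.Zs) ∧
    h.W ⊔ c.Zs = c.Vc ∧
    A ⊓ c.Vc = c.Zs ∧
    (c.S : Subgroup G) ≤ A ⊔ Cfsg.pCore p G ∧
    (A ⊓ Cfsg.pCore p G) ⊔ c.Vc ∈ maxAb (c.S : Subgroup G) := by
  haveI := c.core_normal
  haveI := h.W_normal
  obtain ⟨a, haA, haQ⟩ := h.exists_outside
  have hab := h.hA.2.1
  set q := p ^ c.n
  set Q := Cfsg.pCore p G
  have hq : 0 < q := pow_pos hp.out.pos _
  have hVQ : c.Vc ≤ Q := c.Vc_le.trans inf_le_left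
  have hWV : h.W ≤ c.Vc := fun _ hw => hw.1
  have hB0c : IsMulCommutative ↥((A ⊓ Q) ⊔ c.Vc) := comm_sup (by
    refine sup_le ?_ ?_
    · intro x hx
      exact mem_inf.2 ⟨mem_centralizer_iff.2 fun y hy => comm_of hab hy.1 hx.1,
        mem_centralizer_iff.2 fun y hy => (mem_centralizer_iff.1 (c.Vc_le hy).2 x hx.2).symm⟩
    · intro x hx
      exact mem_inf.2 ⟨mem_centralizer_iff.2 fun y hy => mem_centralizer_iff.1 (c.Vc_le hx).2 y hy.2,
        mem_centralizer_iff.2 fun y hy => comm_of c.Vc_comm hy hx⟩)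
  have hB0S : (A ⊓ Q) ⊔ c.Vc ≤ (c.S : Subgroup G) := sup_le (inf_le_left.trans h.hA.1) (hVQ.trans c.core_le)
  have h1 := card_mul_le (A ⊓ Q) c.Vc
  have h2 := h.hA.2.2 _ hB0S hB0c
  have h3 := c.card_le A h.hA.1
  have hAQV : A ⊓ Q ⊓ c.Vc = A ⊓ c.Vc := le_antisymm (inf_le_inf_right _ inf_le_left)
    (le_inf (le_inf inf_le_left (inf_le_right.trans hVQ)) inf_le_right)
  rw [hAQV] at h1
  have hWA : Nat.card ↥(h.W ⊓ A) ≤ Nat.card ↥(h.W ⊓ centralizer ({a} : Set G)) :=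
    Nat.card_mono (Set.toFinite _) fun x hx =>
      mem_inf.2 ⟨hx.1, mem_centralizer_singleton_iff.2 (comm_of hab hx.2 haA)⟩
  have hb := c.elem_bound h.W h.W_elem h.W_cent (h.hA.1 haA) haQ
  have h4 := card_mul_le h.W (A ⊓ c.Vc)
  have h4a : Nat.card ↥(h.W ⊓ (A ⊓ c.Vc)) ≤ Nat.card ↥(h.W ⊓ A) :=
    Nat.card_mono (Set.toFinite _) fun x hx => ⟨hx.1, hx.2.1⟩
  have h4b : Nat.card ↥(h.W ⊔ (A ⊓ c.Vc)) ≤ Nat.card c.Vc :=
    Nat.card_mono (Set.toFinite _) (SetLike.coe_subset_coe.2 (sup_le hWV inf_le_right))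
  -- |V| ≥ q |A ∩ V|
  have h5 : q * Nat.card ↥(A ⊓ c.Vc) ≤ Nat.card c.Vc := by
    refine Nat.le_of_mul_le_mul_right (c := Nat.card ↥(h.W ⊓ A)) ?_ Nat.card_pos
    calc q * Nat.card ↥(A ⊓ c.Vc) * Nat.card ↥(h.W ⊓ A)
        = (q * Nat.card ↥(h.W ⊓ A)) * Nat.card ↥(A ⊓ c.Vc) := by ring
      _ ≤ Nat.card h.W * Nat.card ↥(A ⊓ c.Vc) :=
          Nat.mul_le_mul_right _ ((Nat.mul_le_mul_left _ hWA).trans hb)
      _ ≤ _ := h4.trans (Nat.mul_le_mul h4b h4a)
  have h6 : Nat.card A = q * Nat.card ↥(A ⊓ Q) := by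
    refine le_antisymm h3 (Nat.le_of_mul_le_mul_right (c := Nat.card ↥(A ⊓ c.Vc)) ?_ Nat.card_pos)
    calc q * Nat.card ↥(A ⊓ Q) * Nat.card ↥(A ⊓ c.Vc)
        = Nat.card ↥(A ⊓ Q) * (q * Nat.card ↥(A ⊓ c.Vc)) := by ring
      _ ≤ Nat.card ↥(A ⊓ Q) * Nat.card c.Vc := Nat.mul_le_mul_left _ h5
      _ ≤ _ := h1
      _ ≤ _ := Nat.mul_le_mul_right _ h2
  have hS := c.le_sup_of_card A h.hA.1 h6
  have h7 : A ⊓ c.Vc = c.Zs := by
    refine le_antisymm (fun x hx => ⟨h.hA.1 hx.1, mem_centralizer_iff.2 fun s hs => ?_⟩)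
      (le_inf (Cfsg.Lib.Fusion.centralizerIn_self_le_maxAb h.hA) Subgroup.le_normalClosure)
    have : A ⊔ Q ≤ centralizer ({x} : Set G) := sup_le
      (fun b hb => mem_centralizer_singleton_iff.2 (comm_of hab hb hx.1))
      (fun b hb => mem_centralizer_singleton_iff.2 (mem_centralizer_iff.1 (c.Vc_le hx.2).2 b hb))
    exact mem_centralizer_singleton_iff.1 (this (hS hs))
  have h8 : Nat.card c.Vc = q * Nat.card c.Zs := by
    refine le_antisymm ?_ (h7 ▸ h5)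
    have hle : Nat.card ↥(A ⊓ Q) * Nat.card c.Vc ≤ Nat.card ↥(A ⊓ Q) * (q * Nat.card c.Zs) := ?_
    · exact Nat.le_of_mul_le_mul_left hle Nat.card_pos
    rw [← mul_assoc, mul_comm (Nat.card ↥(A ⊓ Q)) q, ← h6, ← h7]
    exact h1.trans (Nat.mul_le_mul_right _ h2)
  have hB0 : (A ⊓ Q) ⊔ c.Vc ∈ maxAb (c.S : Subgroup G) := by
    refine ⟨hB0S, hB0c, fun A' e1 e2 => (h.hA.2.2 A' e1 e2).trans ?_⟩
    refine Nat.le_of_mul_le_mul_right (c := Nat.card ↥(A ⊓ c.Vc)) ?_ Nat.card_pos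
    refine le_trans (le_of_eq ?_) h1
    rw [h6, h8, h7]; ring
  have hWZ : Nat.card ↥(h.W ⊓ c.Zs) ≤ Nat.card ↥(h.W ⊓ A) :=
    Nat.card_mono (Set.toFinite _) fun x hx =>
      ⟨hx.1, Cfsg.Lib.Fusion.centralizerIn_self_le_maxAb h.hA hx.2⟩
  have hZV : c.Zs ≤ c.Vc := Subgroup.le_normalClosure
  have h9 := card_mul_le h.W c.Zs
  have h10 : q * Nat.card ↥(h.W ⊓ c.Zs) ≤ Nat.card h.W :=
    ((Nat.mul_le_mul_left _ (hWZ.trans hWA)).trans hb)
  have h11 : h.W ⊔ c.Zs = c.Vc := by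
    refine Subgroup.eq_of_le_of_card_ge (sup_le hWV hZV) ?_
    refine Nat.le_of_mul_le_mul_right (c := Nat.card ↥(h.W ⊓ c.Zs)) ?_ Nat.card_pos
    refine le_trans ?_ h9
    rw [h8]
    calc q * Nat.card c.Zs * Nat.card ↥(h.W ⊓ c.Zs) = (q * Nat.card ↥(h.W ⊓ c.Zs)) * Nat.card c.Zs := by ring
      _ ≤ _ := Nat.mul_le_mul_right _ h10
  refine ⟨h8, le_antisymm ?_ h10, h11, h7, hS, hB0⟩
  refine Nat.le_of_mul_le_mul_right (c := Nat.card c.Zs) ?_ Nat.card_pos
  calc Nat.card h.W * Nat.card c.Zs ≤ _ := h9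
    _ = _ := by rw [h11, h8]; ring

end Case

end Ctx

end Cfsg.Lib.PushUp
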