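import Cfsg.Agent.PushUp.Baumann

/-!
The three conclusions of Baumann's argument.
-/

set_option autoImplicit false
set_option linter.style.haveILetI false
set_option linter.unusedSectionVars false

namespace Cfsg.Lib.PushUp

open Subgroup
open scoped commutatorElement
open Cfsg.Lib.Fusion (maxAb)

universe u v

variable {p : ℕ} [hp : Fact p.Prime] {G : Type u} [Group G] [Finite G] {F : Type v} [Field F] [Fintype F]

theorem normal_of_le_center {H : Subgroup G} (h : H ≤ center G) : H.Normal :=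
  ⟨fun n hn g => by rwa [mem_center_iff.1 (h hn) g, mul_inv_cancel_right]⟩

theorem le_normalizer_comm {X A B : Subgroup G} (hA : X ≤ normalizer (A : Set G)) (hB : X ≤ normalizer (B : Set G)) :
    X ≤ normalizer ((⁅A, B⁆ : Subgroup G) : Set G) := fun x hx => by
  rw [← Cfsg.Lib.Transfer.map_conj_eq_self_iff, map_commutator,
    Cfsg.Lib.Transfer.map_conj_eq_self_iff.2 (hA hx), Cfsg.Lib.Transfer.map_conj_eq_self_iff.2 (hB hx)]

theorem le_normalizer_of_maps {H K : Subgroup G}
    (h : ∀ k ∈ K, ∀ x ∈ H, k * x * k⁻¹ ∈ H) : K ≤ normalizer (H : Set G) := fun k hk => by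
  refine mem_normalizer_iff.2 fun x => ⟨h k hk x, fun hx => ?_⟩
  simpa [mul_assoc] using h k⁻¹ (inv_mem hk) _ hx

namespace Ctx

variable (c : Ctx p G F)

theorem S_le_normalizer_J :
    (c.S : Subgroup G) ≤ normalizer (Cfsg.thompsonSubgroupAOf (c.S : Subgroup G) : Set G) := by
  intro s hs
  have hS : (c.S : Subgroup G).map (MulAut.conj s).toMonoidHom = (c.S : Subgroup G) :=
    Cfsg.Lib.Transfer.map_conj_eq_self_iff.2 (le_normalizer hs)
  have hsJ : (Cfsg.thompsonSubgroupAOf (c.S : Subgroup G)).map (MulAut.conj s).toMonoidHom ≤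
      Cfsg.thompsonSubgroupAOf (c.S : Subgroup G) := by
    rw [Cfsg.Lib.Fusion.thompsonAOf_eq, (gc_map_comap _).l_sSup]
    refine iSup₂_le fun A hA => le_sSup ?_
    have := Cfsg.Lib.ZJ.map_maxAb_injOn (f := (MulAut.conj s).toMonoidHom)
      (MulAut.conj s).injective.injOn hA
    rwa [hS] at this
  exact Cfsg.Lib.Transfer.map_conj_eq_self_iff.1
    (eq_of_le_of_card_ge hsJ (card_map_of_injective (MulAut.conj s).injective).ge)

theorem S_le_normalizer_Zj : (c.S : Subgroup G) ≤ normalizer (c.Zj : Set G) :=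
  Cfsg.Lib.Coprime.le_normalizer_inf c.S_le_normalizer_J
    (c.S_le_normalizer_J.trans (Cfsg.Lib.Thompson.normalizer_le_normalizer_centralizer _))

namespace Case

variable {c} {A : Subgroup G} (h : c.Case A)

include h

theorem J_not_le : ¬ Cfsg.thompsonSubgroupAOf (c.S : Subgroup G) ≤ Cfsg.pCore p G := fun hle =>
  h.hAQ (le_trans (by rw [Cfsg.Lib.Fusion.thompsonAOf_eq]; exact le_sSup h.hA) hle)

theorem A_le_J : A ≤ Cfsg.thompsonSubgroupAOf (c.S : Subgroup G) := by
  rw [Cfsg.Lib.Fusion.thompsonAOf_eq]; exact le_sSup h.hA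

theorem L_not_le :
    ¬ normalClosure (Cfsg.thompsonSubgroupAOf (c.S : Subgroup G) : Set G) ≤ c.M :=
  c.closure_not_le (Cfsg.Lib.Fusion.thompsonAOf_le _) h.J_not_le

theorem zj_move {g x : G} (hg : g ∈ normalClosure (Cfsg.thompsonSubgroupAOf (c.S : Subgroup G) : Set G))
    (hx : x ∈ c.Zj) : ∃ v ∈ c.Vc, g * x * g⁻¹ = x * v := by
  haveI := c.core_normal
  set Q := Cfsg.pCore p G
  let X : Subgroup G := ⨅ B ∈ {B ∈ maxAb (c.S : Subgroup G) | B ≤ Q}, B
  have hXmem : ∀ {y : G}, y ∈ X ↔ ∀ B ∈ maxAb (c.S : Subgroup G), B ≤ Q → y ∈ B := fun {y} => by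
    simp only [X, mem_iInf, Set.mem_setOf_eq, and_imp]
  haveI hXn : X.Normal := ⟨fun y hy g => hXmem.2 fun B hB hBQ => by
    have hB' := maxAb_conj c.core_le hB hBQ g⁻¹
    have hB'Q : B.map (MulAut.conj g⁻¹).toMonoidHom ≤ Q := by
      rintro _ ⟨b, hb, rfl⟩; exact c.core_normal.conj_mem b (hBQ hb) g⁻¹
    obtain ⟨b, hb, e⟩ := hXmem.1 hy _ hB' hB'Q
    rw [← e]
    show g * (g⁻¹ * b * g⁻¹⁻¹) * g⁻¹ ∈ B
    rwa [show g * (g⁻¹ * b * g⁻¹⁻¹) * g⁻¹ = b by group]⟩
  haveI : c.Vc.Normal := inferInstance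
  set π := QuotientGroup.mk' c.Vc
  haveI : (X.map π).Normal := hXn.map _ (QuotientGroup.mk'_surjective _)
  have hJ : Cfsg.thompsonSubgroupAOf (c.S : Subgroup G) ≤ (centralizer (X.map π : Set (G ⧸ c.Vc))).comap π := by
    rw [Cfsg.Lib.Fusion.thompsonAOf_eq]
    refine sSup_le fun B hB b hb => mem_comap.2 (mem_centralizer_iff.2 ?_)
    rintro _ ⟨y, hy, rfl⟩
    by_cases hBQ : B ≤ Q
    · rw [← map_mul, ← map_mul, comm_of hB.2.1 (hXmem.1 hy B hB hBQ) hb]
    · have hB0 := (Case.main (c := c) ⟨hB, hBQ, h.hCV⟩).2.2.2.2.2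
      have hle : (B ⊓ Q) ⊔ c.Vc ≤ Q := sup_le inf_le_right (c.Vc_le.trans inf_le_left)
      obtain ⟨b', hb', v, hv, rfl⟩ := mem_sup_of_normal_right.1 (hXmem.1 hy _ hB0 hle)
      rw [map_mul, show π v = 1 from (QuotientGroup.eq_one_iff v).2 hv, mul_one, ← map_mul, ← map_mul,
        comm_of hB.2.1 hb'.1 hb]
  have hL := normalClosure_le_normal (N := (centralizer (X.map π : Set (G ⧸ c.Vc))).comap π) hJ hg
  have hxX : x ∈ X := hXmem.2 fun B hB _ => c.Zj_le_mem hB hx
  have := mem_centralizer_iff.1 (mem_comap.1 hL) _ (mem_map_of_mem π hxX)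
  refine ⟨x⁻¹ * (g * x * g⁻¹), (QuotientGroup.eq_one_iff _).1 ?_, by group⟩
  show π (x⁻¹ * (g * x * g⁻¹)) = 1
  rw [map_mul, map_mul, map_mul, ← this, map_inv, map_inv]
  group

theorem comm_le_center : ⁅c.Zj, (c.S : Subgroup G)⁆ ⊓ c.Zs ≤ center G := by
  haveI := c.core_normal
  set Q := Cfsg.pCore p G
  set L := normalClosure (Cfsg.thompsonSubgroupAOf (c.S : Subgroup G) : Set G)
  set U := ⁅c.Zj, Q⁆
  have hQS := c.core_le
  have hSU : (c.S : Subgroup G) ≤ normalizer (U : Set G) :=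
    le_normalizer_comm c.S_le_normalizer_Zj
      (le_top.trans (normalizer_eq_top (H := Q)).ge)
  have hLU : L ≤ normalizer (U : Set G) := by
    refine le_normalizer_of_maps fun g hg y hy => ?_
    have hle : U.map (MulAut.conj g).toMonoidHom ≤ U := by
      show (⁅c.Zj, Q⁆).map (MulAut.conj g).toMonoidHom ≤ U
      rw [map_le_iff_le_comap, commutator_le]
      intro x hx u hu
      obtain ⟨w, hw, e⟩ := h.zj_move hg hx
      refine mem_comap.2 ?_
      show g * ⁅x, u⁆ * g⁻¹ ∈ U
      set u' := g * u * g⁻¹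
      have hu' : u' ∈ Q := c.core_normal.conj_mem u hu g
      have hwu : w * u' = u' * w := (mem_centralizer_iff.1 (c.Vc_le hw).2 u' hu').symm
      have : g * ⁅x, u⁆ * g⁻¹ = ⁅x, u'⁆ := by
        calc g * ⁅x, u⁆ * g⁻¹ = ⁅g * x * g⁻¹, u'⁆ := by
              simp only [commutatorElement_def, u']; group
          _ = x * (w * u') * w⁻¹ * x⁻¹ * u'⁻¹ := by rw [e, commutatorElement_def]; group
          _ = ⁅x, u'⁆ := by rw [hwu, commutatorElement_def]; group
      rw [this]
      exact commutator_mem_commutator hx hu'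
    exact hle (mem_map_of_mem _ hy)
  haveI hLn : L.Normal := inferInstance
  haveI hUn : U.Normal := normalizer_eq_top_iff.1 (top_le_iff.1
    ((c.sup_eq_top h.L_not_le).ge.trans (sup_le hLU hSU)))
  have hUZ : U ≤ c.Zj := Subgroup.le_normalizer_iff_commutator_le_left.1 (hQS.trans c.S_le_normalizer_Zj)
  have hSU' : ⁅c.Zj, (c.S : Subgroup G)⁆ ≤ U := by
    rw [commutator_le]
    intro x hx s hs
    obtain ⟨b, hb, u, hu, rfl⟩ := mem_sup_of_normal_right.1 (h.main.2.2.2.2.1 hs)
    rw [show ⁅x, b * u⁆ = ⁅x, b⁆ * (b * ⁅x, u⁆ * b⁻¹) by simp only [commutatorElement_def]; group,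
      commutatorElement_eq_one_iff_mul_comm.2 (c.Zj_comm hx h.hA hb).symm, one_mul]
    exact hUn.conj_mem _ (commutator_mem_commutator hx hu) b
  haveI : (centralizer (U : Set G)).Normal := inferInstance
  have hLC : L ≤ centralizer (U : Set G) := normalClosure_le_normal (by
    rw [Cfsg.Lib.Fusion.thompsonAOf_eq]
    exact sSup_le (a := centralizer (U : Set G)) fun B hB b hb =>
      mem_centralizer_iff.2 fun y hy => (c.Zj_comm (hUZ hy) hB hb).symm)
  intro y hy
  refine c.central_of_le h.L_not_le (fun g hg => (mem_centralizer_iff.1 (hLC hg) y (hSU' hy.1)).symm) fun g hg => ?_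
  exact mem_centralizer_iff.1 (mem_inf.1 hy.2).2 g hg

theorem pow_normal : (Cfsg.powerClosure p 1 c.Zs).Normal := by
  haveI := h.W_normal
  refine ⟨fun y hy g => ?_⟩
  have hle : (Cfsg.powerClosure p 1 c.Zs).map (MulAut.conj g).toMonoidHom ≤ Cfsg.powerClosure p 1 c.Zs := by
    rw [Cfsg.powerClosure, MonoidHom.map_closure, closure_le]
    rintro _ ⟨_, ⟨z, hz, rfl⟩, rfl⟩
    have hzV : g * z * g⁻¹ ∈ h.W ⊔ c.Zs := by
      rw [h.main.2.2.1]
      exact (inferInstance : c.Vc.Normal).conj_mem z (Subgroup.le_normalClosure hz) g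
    obtain ⟨w, hw, z', hz', e⟩ := mem_sup_of_normal_left.1 hzV
    refine Subgroup.subset_closure ⟨z', hz', ?_⟩
    show g * z ^ p ^ 1 * g⁻¹ = _
    rw [pow_one, ← conj_pow, ← e,
      (show Commute w z' from comm_of c.Vc_comm hw.1 (Subgroup.le_normalClosure hz')).mul_pow, hw.2, one_mul]
  exact hle (mem_map_of_mem _ hy)

theorem inf_closure_le :
    (c.S : Subgroup G) ⊓ normalClosure (((c.S : Subgroup G) ⊓ centralizer (c.Zj : Set G) : Subgroup G) : Set G) ≤
      (c.S : Subgroup G) ⊓ centralizer (c.Zj : Set G) := by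
  haveI := c.core_normal
  haveI := h.W_normal
  set Q := Cfsg.pCore p G
  set J := Cfsg.thompsonSubgroupAOf (c.S : Subgroup G) with hJdef
  set L := normalClosure (J : Set G)
  obtain ⟨h8, hWc, hWV, hAV, hSAQ, -⟩ := h.main
  obtain ⟨a, haA, haQ⟩ := h.exists_outside
  obtain ⟨g, hgL, hgM⟩ := SetLike.not_le_iff_exists.1 h.L_not_le
  set f := (MulAut.conj g).toMonoidHom with hf
  -- the two Sylow subgroups generate
  have hNS : normalizer ((c.S : Subgroup G) : Set G) ≤ c.M := by
    refine c.le_M _ (fun e => h.hAQ ?_) le_normalizer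
    haveI : (c.S : Subgroup G).Normal := normalizer_eq_top_iff.1 e
    exact h.hA.1.trans (c.le_core c.S.2)
  have hSg : ¬ (c.S : Subgroup G).map f ≤ c.M := fun hle => by
    have hSM : (c.S : Subgroup G) ≤ c.M := le_normalizer.trans hNS
    have hle' : ((g • c.S : Sylow p G) : Subgroup G) ≤ c.M := by
      rwa [Cfsg.Lib.Transfer.sylow_smul_coe]
    obtain ⟨m, hm⟩ := MulAction.exists_smul_eq c.M ((g • c.S).subtype hle') (c.S.subtype hSM)
    have h1 : ((m : G) * g) • c.S = c.S := by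
      refine Sylow.ext ?_
      have h1 := congrArg (fun P : Sylow p c.M => (P : Subgroup c.M).map c.M.subtype) hm
      simp only [Cfsg.Lib.Transfer.sylow_smul_coe, Sylow.coe_subtype] at h1
      rw [map_map, show c.M.subtype.comp (MulAut.conj m).toMonoidHom =
        (MulAut.conj (m : G)).toMonoidHom.comp c.M.subtype from MonoidHom.ext fun z => rfl, ← map_map,
        map_subgroupOf_eq_of_le hSM, map_subgroupOf_eq_of_le (by rwa [Cfsg.Lib.Transfer.sylow_smul_coe] at hle')] at h1
      rw [Cfsg.Lib.Transfer.sylow_smul_coe]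
      refine Eq.trans ?_ h1
      rw [map_map]
      congr 1
      ext z; simp [mul_assoc]
    have h2 := hNS (Sylow.smul_eq_iff_mem_normalizer.1 h1)
    exact hgM (by simpa using mul_mem (inv_mem m.2) h2)
  have hgen : (c.S : Subgroup G) ⊔ (c.S : Subgroup G).map f = ⊤ :=
    by_contra fun e => hSg (le_sup_right.trans (c.le_M _ e le_sup_left))
  have hcomm : ∀ z ∈ c.Zs, ∀ s ∈ (c.S : Subgroup G), s * z = z * s := fun z hz s hs =>
    mem_centralizer_iff.1 (mem_inf.1 hz).2 s hs
  have hcen : c.Zs ⊓ c.Zs.map f ≤ center G := by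
    rintro z ⟨hz, z₀, hz₀, rfl⟩
    refine mem_center_iff.2 fun x => ?_
    have h1 : (c.S : Subgroup G) ⊔ (c.S : Subgroup G).map f ≤ centralizer ({f z₀} : Set G) := by
      refine sup_le (fun s hs => mem_centralizer_singleton_iff.2 (hcomm _ hz s hs)) ?_
      rintro _ ⟨s, hs, rfl⟩
      exact mem_centralizer_singleton_iff.2 (by rw [← map_mul, ← map_mul, hcomm _ hz₀ s hs])
    exact mem_centralizer_singleton_iff.1 (h1 (hgen.ge (mem_top x)))
  -- the module is the product of the two centres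
  set Z1 := h.W ⊓ c.Zs
  set Z2 := (h.W ⊓ c.Zs).map f
  have hfW : ∀ w ∈ h.W, f w ∈ h.W := fun w hw => h.W_normal.conj_mem w hw g
  have hZ2 : Z2 ≤ h.W ⊓ c.Zs.map f := by
    rintro _ ⟨z, hz, rfl⟩; exact ⟨hfW z hz.1, z, hz.2, rfl⟩
  set W₀ := Z1 ⊓ Z2
  have hW₀c : W₀ ≤ center G := fun z hz => hcen ⟨hz.1.2, (hZ2 hz.2).2⟩
  haveI : W₀.Normal := normal_of_le_center hW₀c
  have hVS : c.Vc ≤ (c.S : Subgroup G) := (c.Vc_le.trans inf_le_left).trans c.core_le
  have hW0M : W₀ ≤ c.M :=
    fun z hz => (le_normalizer.trans hNS) hz.1.2.1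
  set π := QuotientGroup.mk' W₀
  have hK : (centralizer (h.W.map π : Set (G ⧸ W₀))).comap π ≤ c.M := by
    haveI : (h.W.map π).Normal := h.W_normal.map _ (QuotientGroup.mk'_surjective _)
    haveI : ((centralizer (h.W.map π : Set (G ⧸ W₀))).comap π).Normal := inferInstance
    by_contra hne
    haveI : (centralizer (h.W : Set G)).Normal := inferInstance
    refine c.hMne (top_le_iff.1 ?_)
    rw [← sup_sylow_eq_top (centralizer (h.W : Set G)) c.S fun y hy => ?_]
    · exact sup_le h.W_cent (le_normalizer.trans hNS)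
    · refine mem_centralizer_iff.2 fun w hw => ?_
      have hy' := mem_centralizer_iff.1 (mem_comap.1 (c.mem_of_coprime hne hy)) _ (mem_map_of_mem π hw)
      set d := y * w * y⁻¹ * w⁻¹ with hd
      have hd0 : d ∈ W₀ := (QuotientGroup.eq_one_iff d).1 (by
        show π d = 1
        rw [hd, map_mul, map_mul, map_mul, ← hy', map_inv, map_inv, mul_inv_cancel_right, mul_inv_cancel])
      have hdp : d ^ p = 1 := hd0.1.1.2
      have hcd : ∀ x, Commute x d := fun x => mem_center_iff.1 (hW₀c hd0) x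
      have hit : ∀ m : ℕ, y ^ m * w * (y ^ m)⁻¹ = d ^ m * w := by
        intro m
        induction m with
        | zero => simp
        | succ m ihm =>
          calc y ^ (m + 1) * w * (y ^ (m + 1))⁻¹ = y * (y ^ m * w * (y ^ m)⁻¹) * y⁻¹ := by
                rw [pow_succ']; group
            _ = (y * d ^ m * y⁻¹) * (y * w * y⁻¹) := by rw [ihm]; group
            _ = d ^ m * (d * w) := by
                rw [((hcd y).pow_right m).eq, mul_inv_cancel_right,
                  show y * w * y⁻¹ = d * w from (inv_mul_cancel_right _ w).symm]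
            _ = d ^ (m + 1) * w := by rw [pow_succ]; exact (mul_assoc _ _ _).symm
      have h1 := hit (orderOf y)
      rw [pow_orderOf_eq_one, one_mul, inv_one, mul_one, right_eq_mul] at h1
      have hd1 : d = 1 := orderOf_eq_one_iff.1 (Nat.eq_one_of_dvd_coprimes hy
        (orderOf_dvd_of_pow_eq_one h1) (orderOf_dvd_of_pow_eq_one hdp))
      exact (mul_inv_eq_iff_eq_mul.1 (mul_inv_eq_one.1 hd1)).symm
  have hqb := c.quot_bound h.W W₀ h.W_elem ((show h.W ≤ c.Vc from fun _ hw => hw.1).trans hVS)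
    (inf_le_left.trans inf_le_left) hW0M hK (h.hA.1 haA) haQ
  have hZ2c : Nat.card Z2 = Nat.card Z1 := card_map_of_injective (MulAut.conj g).injective
  have hWsup : Z1 ⊔ Z2 = h.W := by
    refine Subgroup.eq_of_le_of_card_ge (sup_le inf_le_left (hZ2.trans inf_le_left)) ?_
    refine Nat.le_of_mul_le_mul_right (c := Nat.card W₀) ?_ Nat.card_pos
    refine le_trans ?_ (card_mul_le Z1 Z2)
    rw [hZ2c]
    have hle : (p ^ c.n) ^ 2 * (Nat.card h.W * Nat.card W₀) ≤ (p ^ c.n) ^ 2 * (Nat.card Z1 * Nat.card Z1) := ?_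
    · exact Nat.le_of_mul_le_mul_left hle (pow_pos (pow_pos hp.out.pos _) 2)
    calc (p ^ c.n) ^ 2 * (Nat.card h.W * Nat.card W₀)
        = Nat.card h.W * ((p ^ c.n) ^ 2 * Nat.card W₀) := by ring
      _ ≤ Nat.card h.W * Nat.card h.W := Nat.mul_le_mul_left _ hqb
      _ = _ := by rw [hWc]; ring
  have hV2 : c.Vc ≤ c.Zs ⊔ c.Zs.map f := by
    rw [← hWV, ← hWsup]
    exact sup_le (sup_le (inf_le_right.trans le_sup_left) ((hZ2.trans inf_le_right).trans le_sup_right)) le_sup_left
  -- the conjugate of `J`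
  have hQg : Q.map f = Q := Cfsg.Lib.Transfer.map_conj_eq_self_iff.2 ((normalizer_eq_top (H := Q)).ge (mem_top g))
  have hSJ : (c.S : Subgroup G) ≤ normalizer (J : Set G) := c.S_le_normalizer_J
  haveI hL1 : (J ⊔ J.map f).Normal := by
    rw [← normalizer_eq_top_iff, ← top_le_iff, ← hgen]
    have hQn : Q ≤ normalizer ((J ⊔ J.map f : Subgroup G) : Set G) := by
      refine le_trans ?_ (normalizer_inf_normalizer_le_normalizer_sup _ _)
      refine le_inf (c.core_le.trans hSJ) ?_
      rw [← hQg]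
      exact (map_mono (c.core_le.trans hSJ)).trans (le_normalizer_map f)
    have hS1 : (c.S : Subgroup G) ≤ normalizer ((J ⊔ J.map f : Subgroup G) : Set G) :=
      hSAQ.trans (sup_le (h.A_le_J.trans (le_sup_left.trans le_normalizer)) hQn)
    refine sup_le hS1 ?_
    refine (map_mono hSAQ).trans ?_
    rw [Subgroup.map_sup, hQg]
    exact sup_le ((map_mono h.A_le_J).trans (le_sup_right.trans le_normalizer)) hQn
  have hLeq : L ≤ J ⊔ J.map f := normalClosure_le_normal (SetLike.coe_subset_coe.2 le_sup_left)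
  -- `S ∩ L` centralises `Z(J(S))`
  have hSL : ∀ t ∈ (c.S : Subgroup G), t ∈ L → t ∈ centralizer (c.Zj : Set G) := by
    intro t htS htL
    refine mem_centralizer_iff.2 fun x hx => ?_
    obtain ⟨w, hw, e⟩ := h.zj_move hgL hx
    haveI := c.Vc_comm
    obtain ⟨z, hz, _, ⟨z₀, hz₀, rfl⟩, ew⟩ : ∃ z ∈ c.Zs, ∃ z' ∈ c.Zs.map f, z * z' = w := by
      have hcm : c.Zs.map f ≤ normalizer (c.Zs : Set G) := by
        refine le_normalizer_of_maps fun b hb z hz => ?_
        have hbV : b ∈ c.Vc := by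
          obtain ⟨z₁, hz₁, rfl⟩ := hb
          exact (inferInstance : c.Vc.Normal).conj_mem z₁ (Subgroup.le_normalClosure hz₁) g
        rwa [comm_of c.Vc_comm hbV (Subgroup.le_normalClosure hz), mul_inv_cancel_right]
      have := hV2 hw
      rwa [← SetLike.mem_coe, coe_mul_of_right_le_normalizer_left _ _ hcm, Set.mem_mul] at this
    have hy1 : J ≤ centralizer ({x * z} : Set G) := fun j hj => mem_centralizer_singleton_iff.2 (by
      exact ((show Commute j x from mem_centralizer_iff.1 (mem_inf.1 hx).2 j hj).mul_right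
        (show Commute j z from hcomm z hz j (Cfsg.Lib.Fusion.thompsonAOf_le _ hj))).eq)
    have hy2 : J.map f ≤ centralizer ({x * z} : Set G) := by
      rintro _ ⟨j, hj, rfl⟩
      have hxz : x * z = f (x * z₀⁻¹) := by
        rw [map_mul, map_inv, show f x = x * w from e, ← ew]; group
      refine mem_centralizer_singleton_iff.2 ?_
      rw [hxz, ← map_mul, ← map_mul]
      congr 1
      exact ((show Commute j x from mem_centralizer_iff.1 (mem_inf.1 hx).2 j hj).mul_right
        ((show Commute j z₀ from hcomm z₀ hz₀ j (Cfsg.Lib.Fusion.thompsonAOf_le _ hj))).inv_right).eq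
    have h1 : Commute t (x * z) := mem_centralizer_singleton_iff.1 ((hLeq.trans (sup_le hy1 hy2)) htL)
    have h2 : Commute t z := hcomm z hz t htS
    have h3 : Commute t x := by simpa using h1.mul_right h2.inv_right
    exact h3.eq.symm
  set Cq := Q ⊓ centralizer (c.Zj : Set G)
  haveI hCq : Cq.Normal := by
    rw [← normalizer_eq_top_iff, ← top_le_iff, ← c.sup_eq_top h.L_not_le]
    refine sup_le ?_ (Cfsg.Lib.Coprime.le_normalizer_inf (le_top.trans (normalizer_eq_top (H := Q)).ge)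
      (c.S_le_normalizer_Zj.trans (Cfsg.Lib.Thompson.normalizer_le_normalizer_centralizer _)))
    refine le_normalizer_of_maps fun b hb y hy => ⟨c.core_normal.conj_mem y hy.1 b,
      mem_centralizer_iff.2 fun x hx => ?_⟩
    obtain ⟨w, hw, e⟩ := h.zj_move (inv_mem hb) hx
    have h1 : Commute y (x * w) := (show Commute y x from (mem_centralizer_iff.1 hy.2 x hx).symm).mul_right
      (mem_centralizer_iff.1 (c.Vc_le hw).2 y hy.1)
    have h2 := h1.eq
    rw [← e, inv_inv] at h2
    calc x * (b * y * b⁻¹) = b * ((b⁻¹ * x * b) * y) * b⁻¹ := by group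
      _ = b * (y * (b⁻¹ * x * b)) * b⁻¹ := by rw [h2]
      _ = b * y * b⁻¹ * x := by group
  have hC : (c.S : Subgroup G) ⊓ centralizer (c.Zj : Set G) ≤ L ⊔ Cq := by
    rintro s ⟨hs, hsc⟩
    obtain ⟨b, hb, u, hu, rfl⟩ := mem_sup_of_normal_right.1 (hSAQ hs)
    refine mul_mem (mem_sup_left (Subgroup.le_normalClosure (h.A_le_J hb))) (mem_sup_right ⟨hu, ?_⟩)
    have hbc : b ∈ centralizer (c.Zj : Set G) :=
      mem_centralizer_iff.2 fun x hx => (c.Zj_comm hx h.hA hb).symm
    have := mul_mem (inv_mem hbc) hsc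
    rwa [inv_mul_cancel_left] at this
  intro s hsmem
  obtain ⟨hs, hsN⟩ := mem_inf.1 hsmem
  obtain ⟨l, hl, u, hu, rfl⟩ := mem_sup_of_normal_right.1 (normalClosure_le_normal (N := L ⊔ Cq) hC hsN)
  have hlS : l ∈ (c.S : Subgroup G) := by
    have := mul_mem hs (inv_mem (c.core_le (mem_inf.1 hu).1))
    rwa [mul_inv_cancel_right] at this
  exact ⟨hs, mul_mem (hSL l hlS hl) hu.2⟩

end Case

end Ctx

/-- the `p`-th powers of the centre -/
theorem power_or (c : Ctx p G F) : (Cfsg.powerClosure p 1 c.Zs).Normal ∨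
    ((c.S : Subgroup G) ⊓ centralizer (c.Zj : Set G)).Normal := by
  rcases c.cases with h | h | ⟨A, h⟩
  · exact Or.inl (normal_of_le_center (le_trans ((closure_le _).2 fun _ ⟨_, hx, e⟩ => e ▸ pow_mem hx _) h))
  · exact Or.inr h
  · exact Or.inl h.pow_normal

/-- the commutator with `Z(J(S))` -/
theorem commutator_or (c : Ctx p G F) : (⁅c.Zj, (c.S : Subgroup G)⁆ ⊓ c.Zs).Normal ∨
    ((c.S : Subgroup G) ⊓ centralizer (c.Zj : Set G)).Normal := by
  rcases c.cases with h | h | ⟨A, h⟩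
  · exact Or.inl (normal_of_le_center (inf_le_right.trans h))
  · exact Or.inr h
  · exact Or.inl (normal_of_le_center h.comm_le_center)

/-- a Sylow subgroup of the closure -/
theorem sylow_closure (c : Ctx p G F) (hZ : ¬ c.Zs.Normal) :
    ∃ P : Sylow p ↥(normalClosure (((c.S : Subgroup G) ⊓ centralizer (c.Zj : Set G) : Subgroup G) : Set G)),
      (P : Subgroup ↥(normalClosure (((c.S : Subgroup G) ⊓ centralizer (c.Zj : Set G) : Subgroup G) : Set G))) =
      ((c.S : Subgroup G) ⊓ centralizer (c.Zj : Set G)).subgroupOf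
        (normalClosure (((c.S : Subgroup G) ⊓ centralizer (c.Zj : Set G) : Subgroup G) : Set G)) := by
  set C := (c.S : Subgroup G) ⊓ centralizer (c.Zj : Set G) with hC
  set N := normalClosure (C : Set G)
  have hle : (c.S : Subgroup G) ⊓ N ≤ C := by
    rcases c.cases with h | h | ⟨A, h⟩
    · exact absurd (normal_of_le_center h) hZ
    · haveI : C.Normal := h
      exact inf_le_right.trans (normalClosure_le_normal le_rfl)
    · exact h.inf_closure_le
  have heq : (c.S : Subgroup G).subgroupOf N = C.subgroupOf N := by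
    ext x
    refine ⟨fun hx => hle ⟨hx, x.2⟩, fun hx => (mem_inf.1 hx).1⟩
  have hnd : ¬ p ∣ ((c.S : Subgroup G).subgroupOf N).index := fun h => c.S.not_dvd_index
    (h.trans (Cfsg.Lib.Components.relIndex_dvd_index_of_normal_right (c.S : Subgroup G) N))
  exact ⟨(c.S.2.comap_of_injective N.subtype N.subtype_injective).toSylow hnd, heq⟩

end Cfsg.Lib.PushUp
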