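import Cfsg.Agent.FFModule.Model
import Cfsg.Agent.Components.Module.IndexBound
import Cfsg.Agent.Transfer.Basic

/-!
Index bounds for the fixed points of a `p`-element on a normal elementary abelian subgroup of a group
that maps onto `PSL(2, q)`.
-/

set_option autoImplicit false
set_option linter.style.haveILetI false
set_option linter.unusedSectionVars false

namespace Cfsg.Lib.PushUp

open Subgroup
open scoped commutatorElement

universe u

variable {G : Type u} [Group G] [Finite G] {p : ℕ} [Fact p.Prime]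

theorem centralizer_zpowers_eq {X : Type*} [Group X] (x : X) :
    centralizer ((zpowers x : Subgroup X) : Set X) = centralizer ({x} : Set X) := by
  rw [zpowers_eq_closure, centralizer_closure]

theorem relIndex_mul_card {C V : Subgroup G} (h : C ≤ V) : C.relIndex V * Nat.card C = Nat.card V := by
  rw [← relIndex_bot_left C, ← relIndex_bot_left V, mul_comm]
  exact relIndex_mul_relIndex ⊥ C V bot_le h

/-- a `p`-element outside the kernel moves many points -/
theorem moved_bound {F : Type*} [Field F] [Fintype F] {n : ℕ} (hF : Fintype.card F = p ^ n) (hn : 2 ≤ n)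
    (W : Subgroup G) [W.Normal] (hW : Cfsg.IsElementaryAbelian p W)
    (ψ : G →* Matrix.ProjectiveSpecialLinearGroup (Fin 2) F) (hψ : Function.Surjective ψ)
    (hC : centralizer (W : Set G) ≤ ψ.ker) (s : G) (hs : ∃ j, orderOf s = p ^ j) (hs1 : ψ s ≠ 1) :
    p ^ n * Nat.card ↥(W ⊓ centralizer ({s} : Set G)) ≤ Nat.card W ∧ p ^ (2 * n) ≤ Nat.card W := by
  set ρ := Cfsg.Lib.FF.rho W
  set r : G →* ρ.range := ρ.rangeRestrict
  have hr : Function.Surjective r := ρ.rangeRestrict_surjective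
  let φ : ρ.range →* Matrix.ProjectiveSpecialLinearGroup (Fin 2) F :=
    r.liftOfRightInverse _ (Function.rightInverse_surjInv hr) ⟨ψ, by
      rw [show r = ρ.rangeRestrict from rfl, MonoidHom.ker_rangeRestrict, Cfsg.Lib.FF.ker_rho]
      exact hC⟩
  have hφr : ∀ g, φ (r g) = ψ g := fun g =>
    MonoidHom.liftOfRightInverse_comp_apply r _ _ ⟨ψ, _⟩ g
  have hφ : Function.Surjective φ := fun y => by
    obtain ⟨g, rfl⟩ := hψ y
    exact ⟨r g, hφr g⟩
  have hford : ∃ j, orderOf (r s) = p ^ j := by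
    obtain ⟨j, hj⟩ := hs
    obtain ⟨i, -, hi⟩ := (Nat.dvd_prime_pow (Fact.out : p.Prime)).1 (hj ▸ orderOf_map_dvd r s)
    exact ⟨i, hi⟩
  have hf : ρ.range ⊓ centralizer (Cfsg.Lib.FF.vx W : Set (Cfsg.Lib.FF.Amb W)) = ⊥ := by
    rw [Subgroup.eq_bot_iff_forall]
    rintro h ⟨hh, hc⟩
    refine Cfsg.Lib.FF.faith_vx W (H := ⊤) h ?_ fun v hv => (mem_centralizer_iff.1 hc v hv).symm
    rwa [← MonoidHom.range_eq_map]
  obtain ⟨h1, h2⟩ := Cfsg.Lib.Components.IndexBound.psl_bound hF hn (Cfsg.Lib.FF.vx W) ρ.range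
    (Cfsg.Lib.FF.elementary_vx hW) (Cfsg.Lib.FF.le_normalizer_vx W _) hf φ hφ (r s) hford
    (by rw [hφr]; exact hs1)
  have hcard : Nat.card (Cfsg.Lib.FF.vx W) = Nat.card W := by
    exact (Nat.card_congr (MonoidHom.ofInjective (f := (SemidirectProduct.inl : ↥W →* Cfsg.Lib.FF.Amb W))
      SemidirectProduct.inl_injective).toEquiv).symm
  have hfix : Nat.card ↥(Cfsg.Lib.FF.vx W ⊓ centralizer ({ρ s} : Set (Cfsg.Lib.FF.Amb W))) =
      Nat.card ↥(W ⊓ centralizer ({s} : Set G)) := by
    have := Cfsg.Lib.FF.card_fx_map W (zpowers s)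
    rwa [Cfsg.Lib.FF.fx, Cfsg.Lib.FF.fx, MonoidHom.map_zpowers, centralizer_zpowers_eq,
      centralizer_zpowers_eq] at this
  refine ⟨?_, hcard ▸ h2⟩
  rw [← hcard, ← hfix, ← relIndex_mul_card (inf_le_left (a := Cfsg.Lib.FF.vx W)
    (b := centralizer ({ρ s} : Set (Cfsg.Lib.FF.Amb W))))]
  exact Nat.mul_le_mul_right _ h1

/-- an automorphism fixing the elements of order `p` of an abelian `p`-subgroup has `p`-power order on it -/
theorem commute_of_fix_omega (V : Subgroup G) (hVc : IsMulCommutative V) (hV : IsPGroup p V) {g : G}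
    (hg : g ∈ normalizer (V : Set G)) (hcop : (orderOf g).Coprime p)
    (hfix : ∀ v ∈ V, v ^ p = 1 → g * v = v * g) {v : G} (hv : v ∈ V) : g * v = v * g := by
  have key : ∀ k : ℕ, ∀ v ∈ V, v ^ p ^ k = 1 → g * v = v * g := by
    intro k
    induction k with
    | zero => intro v _ h; rw [pow_zero, pow_one] at h; rw [h, mul_one, one_mul]
    | succ k ih =>
      intro v hv h
      have hgv : g * v * g⁻¹ ∈ V := (mem_normalizer_iff.1 hg v).1 hv
      set d := g * v * g⁻¹ * v⁻¹ with hd
      have hdV : d ∈ V := mul_mem hgv (inv_mem hv)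
      have hvp : g * v ^ p = v ^ p * g := ih _ (pow_mem hv p) (by rw [← pow_mul, ← pow_succ']; exact h)
      have hc : Commute (g * v * g⁻¹) v⁻¹ := congrArg Subtype.val
        (hVc.is_comm.comm ⟨_, hgv⟩ ⟨v⁻¹, inv_mem hv⟩)
      have hdp : d ^ p = 1 := by
        rw [hd, hc.mul_pow, conj_pow, hvp, mul_inv_cancel_right, inv_pow, mul_inv_cancel]
      have hgd := hfix d hdV hdp
      have hit : ∀ m : ℕ, g ^ m * v * (g ^ m)⁻¹ = d ^ m * v := by
        intro m
        induction m with
        | zero => simp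
        | succ m ihm =>
          have e1 : g * d ^ m * g⁻¹ = d ^ m := by
            rw [(show Commute g d from hgd).pow_right m |>.eq, mul_inv_cancel_right]
          calc g ^ (m + 1) * v * (g ^ (m + 1))⁻¹ = g * (g ^ m * v * (g ^ m)⁻¹) * g⁻¹ := by
                rw [pow_succ']; group
            _ = (g * d ^ m * g⁻¹) * (g * v * g⁻¹) := by rw [ihm]; group
            _ = d ^ m * (d * v) := by rw [e1, show g * v * g⁻¹ = d * v from (inv_mul_cancel_right _ v).symm]
            _ = d ^ (m + 1) * v := by rw [pow_succ]; exact (mul_assoc _ _ _).symm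
      have h1 := hit (orderOf g)
      rw [pow_orderOf_eq_one, one_mul, inv_one, mul_one, right_eq_mul] at h1
      have hd1 : d = 1 := orderOf_eq_one_iff.1 (Nat.eq_one_of_dvd_coprimes hcop
        (orderOf_dvd_of_pow_eq_one h1) (orderOf_dvd_of_pow_eq_one hdp))
      exact mul_inv_eq_iff_eq_mul.1 (mul_inv_eq_one.1 hd1)
  obtain ⟨k, hk⟩ := hV ⟨v, hv⟩
  exact key k v hv (congrArg Subtype.val hk)

/-- a normal subgroup containing the elements of order prime to `p` supplements a Sylow subgroup -/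
theorem sup_sylow_eq_top (N : Subgroup G) [N.Normal] (S : Sylow p G)
    (h : ∀ g : G, (orderOf g).Coprime p → g ∈ N) : N ⊔ (S : Subgroup G) = ⊤ := by
  have hq : IsPGroup p (G ⧸ N) := by
    intro x
    obtain ⟨g, rfl⟩ := QuotientGroup.mk'_surjective N x
    obtain ⟨a, m, hm, he⟩ := Nat.exists_eq_pow_mul_and_not_dvd (orderOf_pos g).ne' p
      (Fact.out : p.Prime).ne_one
    refine ⟨a, ?_⟩
    rw [← map_pow]
    refine (QuotientGroup.eq_one_iff _).2 (h _ ?_)
    rw [orderOf_pow, he, Nat.gcd_eq_right (dvd_mul_right _ _),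
      Nat.mul_div_cancel_left _ (pow_pos (Fact.out : p.Prime).pos a)]
    exact ((Fact.out : p.Prime).coprime_iff_not_dvd.2 hm).symm
  have hd1 : (N ⊔ (S : Subgroup G)).index ∣ N.index := index_dvd_of_le le_sup_left
  obtain ⟨k, hk⟩ := hq.exists_card_eq
  rw [← index_eq_card] at hk
  obtain ⟨i, -, hi⟩ := (Nat.dvd_prime_pow (Fact.out : p.Prime)).1 (hk ▸ hd1)
  rw [← index_eq_one]
  rcases i.eq_zero_or_pos with rfl | hi0
  · rw [hi, pow_zero]
  · exact absurd ((hi ▸ dvd_pow_self p hi0.ne').trans (index_dvd_of_le le_sup_right)) S.not_dvd_index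

end Cfsg.Lib.PushUp
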