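import Cfsg.Agent.PushUp.Baumann
import Cfsg.Agent.Components.CD.Replace
import Cfsg.Agent.PGroups.SpecialCoprime
import Cfsg.Agent.PGroups.Basic

/-!
Minimal centrally large subgroups in the pushing-up situation: if `S` centralises `Z(J(S))` and `Z(S)` is
not normal, every minimal centrally large subgroup can be exchanged for one inside `O_p(G)` with the same
derived and Frattini subgroups.
-/

set_option autoImplicit false
set_option linter.style.haveILetI false
set_option linter.unusedSectionVars false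

namespace Cfsg.Lib.PushUp

open Subgroup
open scoped commutatorElement

universe u v

variable {p : ℕ} [hp : Fact p.Prime] {G : Type u} [Group G] [Finite G] {F : Type v} [Field F] [Fintype F]

theorem card_sup_lower {H K : Subgroup G} {q m : ℕ} (hq : q * m ≤ Nat.card K)
    (hm : Nat.card ↥(H ⊓ K) ≤ m) : q * Nat.card H ≤ Nat.card ↥(H ⊔ K) := by
  refine Nat.le_of_mul_le_mul_right (c := Nat.card ↥(H ⊓ K)) ?_ Nat.card_pos
  calc q * Nat.card H * Nat.card ↥(H ⊓ K) ≤ q * Nat.card H * m := Nat.mul_le_mul_left _ hm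
    _ = Nat.card H * (q * m) := by ring
    _ ≤ Nat.card H * Nat.card K := Nat.mul_le_mul_left _ hq
    _ ≤ _ := card_mul_le H K

theorem card_le' {H K : Subgroup G} (h : H ≤ K) : Nat.card H ≤ Nat.card K :=
  Nat.card_le_card_of_injective _ (inclusion_injective h)

/-- adjoining central elements of order `p` leaves the Frattini subgroup unchanged -/
theorem frattini_sup {P : Type u} [Group P] [Finite P] (hP : IsPGroup p P) {H E : Subgroup P}
    (hEp : ∀ x ∈ E, x ^ p = 1) (hE : E ≤ centralizer ((H ⊔ E : Subgroup P) : Set P)) :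
    (frattini ↥(H ⊔ E : Subgroup P)).map (H ⊔ E).subtype = (frattini ↥H).map H.subtype := by
  set R := H ⊔ E
  set N := (frattini ↥H).map H.subtype with hN
  set M := (frattini ↥R).map R.subtype
  have hNH : N ≤ H := map_subtype_le _
  have hcE : ∀ e ∈ E, ∀ r ∈ R, r * e = e * r := fun e he r hr => mem_centralizer_iff.1 (hE he) r hr
  have hEn : H ≤ normalizer (E : Set P) := fun h hh => mem_normalizer_iff.2 fun e =>
    ⟨fun he => by rw [hcE e he h (mem_sup_left hh), mul_inv_cancel_right]; exact he,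
      fun he => by
        have h1 := hcE _ he h⁻¹ (mem_sup_left (inv_mem hh))
        have h2 : h⁻¹ * (h * e * h⁻¹) * h = e := by group
        rw [h1, inv_mul_cancel_right] at h2
        rwa [← h2]⟩
  have split : ∀ r ∈ R, ∃ h ∈ H, ∃ e ∈ E, r = h * e := fun r hr => by
    rw [← SetLike.mem_coe, coe_mul_of_left_le_normalizer_right H E hEn] at hr
    obtain ⟨h, hh, e, he, rfl⟩ := hr
    exact ⟨h, hh, e, he, rfl⟩
  have hNn : ∀ h ∈ H, ∀ x ∈ N, h * x * h⁻¹ ∈ N := by
    rintro h hh _ ⟨x, hx, rfl⟩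
    exact ⟨⟨h, hh⟩ * x * ⟨h, hh⟩⁻¹, (inferInstance : (frattini ↥H).Normal).conj_mem x hx _, rfl⟩
  apply le_antisymm
  · haveI hn : (N.subgroupOf R).Normal := by
      refine ⟨fun x hx r => ?_⟩
      rw [mem_subgroupOf] at hx ⊢
      obtain ⟨h, hh, e, he, hr⟩ := split r r.2
      have : ((r * x * r⁻¹ : ↥R) : P) = h * x * h⁻¹ := by
        rw [Subgroup.coe_mul, Subgroup.coe_mul, Subgroup.coe_inv, hr,
          show h * e * (x : P) * (h * e)⁻¹ = h * (e * x) * e⁻¹ * h⁻¹ by group,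
          ← hcE e he x (mem_sup_left (hNH hx))]
        group
      rw [this]; exact hNn h hh _ hx
    have hle : frattini ↥R ≤ N.subgroupOf R := by
      refine Cfsg.Lib.PGroups.SpecialCoprime.frattini_le_of_elementary (p := p) _ (fun r => ?_) ?_
      · rw [mem_subgroupOf, SubmonoidClass.coe_pow]
        obtain ⟨h, hh, e, he, hr⟩ := split r r.2
        rw [hr, (show Commute h e from hcE e he h (mem_sup_left hh)).mul_pow, hEp e he, mul_one]
        exact ⟨⟨h, hh⟩ ^ p, Cfsg.Lib.PGroups.pow_mem_frattini (hP.to_subgroup H) _, rfl⟩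
      · rw [_root_.commutator_def, commutator_le]
        intro a _ b _
        obtain ⟨h, hh, e, he, ha⟩ := split a a.2
        obtain ⟨k, hk, f, hf, hb⟩ := split b b.2
        rw [mem_subgroupOf]
        have c1 := hcE e he (k * f) (by rw [← hb]; exact b.2)
        have c2 := hcE f hf h⁻¹ (mem_sup_left (inv_mem hh))
        have : ((⁅a, b⁆ : ↥R) : P) = ⁅h, k⁆ := by
          show ⁅(a : P), (b : P)⁆ = _
          rw [commutatorElement_def, commutatorElement_def, ha, hb]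
          calc h * e * (k * f) * (h * e)⁻¹ * (k * f)⁻¹
              = h * (e * (k * f)) * e⁻¹ * h⁻¹ * (k * f)⁻¹ := by group
            _ = h * k * (f * h⁻¹) * f⁻¹ * k⁻¹ := by rw [← c1]; group
            _ = h * k * h⁻¹ * k⁻¹ := by rw [← c2]; group
        rw [this]
        exact ⟨⁅(⟨h, hh⟩ : ↥H), ⟨k, hk⟩⁆, Cfsg.Lib.PGroups.commutator_le_frattini (hP.to_subgroup H)
          (commutator_mem_commutator (mem_top _) (mem_top _)), rfl⟩
    rintro _ ⟨x, hx, rfl⟩
    exact hle hx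
  · have hHR : H ≤ R := le_sup_left
    haveI hn : ((frattini ↥R).comap (Subgroup.inclusion hHR)).Normal := inferInstance
    have hle : frattini ↥H ≤ (frattini ↥R).comap (Subgroup.inclusion hHR) := by
      refine Cfsg.Lib.PGroups.SpecialCoprime.frattini_le_of_elementary (p := p) _ (fun h => ?_) ?_
      · rw [mem_comap, map_pow]
        exact Cfsg.Lib.PGroups.pow_mem_frattini (hP.to_subgroup R) _
      · rw [_root_.commutator_def, commutator_le]
        intro a _ b _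
        rw [mem_comap, map_commutatorElement]
        exact Cfsg.Lib.PGroups.commutator_le_frattini (hP.to_subgroup R)
          (commutator_mem_commutator (mem_top _) (mem_top _))
    rintro _ ⟨x, hx, rfl⟩
    exact ⟨_, hle hx, rfl⟩

theorem normal_of_le_center' {H : Subgroup G} (h : H ≤ center G) : H.Normal :=
  ⟨fun n hn g => by rwa [mem_center_iff.1 (h hn) g, mul_inv_cancel_right]⟩

namespace Ctx

variable (c : Ctx p G F)

/-- `O_p(G)` seen in `S` -/
abbrev coreS : Subgroup ↥(c.S : Subgroup G) := (Cfsg.pCore p G).subgroupOf (c.S : Subgroup G)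

/-- the image of a subgroup of `O_p(G)` under conjugation, seen in `S` -/
abbrev moveS (g : G) (R : Subgroup ↥(c.S : Subgroup G)) : Subgroup ↥(c.S : Subgroup G) :=
  ((R.map (c.S : Subgroup G).subtype).map (MulAut.conj g).toMonoidHom).subgroupOf (c.S : Subgroup G)

theorem moveS_map {g : G} {R : Subgroup ↥(c.S : Subgroup G)} (hR : R ≤ c.coreS) :
    (c.moveS g R).map (c.S : Subgroup G).subtype =
      (R.map (c.S : Subgroup G).subtype).map (MulAut.conj g).toMonoidHom := by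
  haveI := c.core_normal
  refine map_subgroupOf_eq_of_le ?_
  rintro _ ⟨_, ⟨x, hx, rfl⟩, rfl⟩
  exact c.core_le (c.core_normal.conj_mem _ (hR hx) g)

theorem moveS_le {g : G} {R : Subgroup ↥(c.S : Subgroup G)} (hR : R ≤ c.coreS) :
    c.moveS g R ≤ c.coreS := by
  rintro x ⟨_, ⟨y, hy, rfl⟩, e⟩
  show (x : G) ∈ Cfsg.pCore p G
  rw [show (x : G) = (MulAut.conj g).toMonoidHom ((c.S : Subgroup G).subtype y) from e.symm]
  exact c.core_normal.conj_mem _ (hR hy) g

theorem moveS_inv {g : G} {R R' : Subgroup ↥(c.S : Subgroup G)} (hR : R ≤ c.coreS)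
    (hle : R' ≤ c.moveS g R) : c.moveS g⁻¹ R' ≤ R := by
  rintro x ⟨_, ⟨y, hy, rfl⟩, e⟩
  obtain ⟨_, ⟨z, hz, rfl⟩, e'⟩ := hle hy
  have : x = z := Subtype.ext (by
    rw [← show g⁻¹ * ((c.S : Subgroup G).subtype y) * g⁻¹⁻¹ = (x : G) from e,
      ← show g * ((c.S : Subgroup G).subtype z) * g⁻¹ = (c.S : Subgroup G).subtype y from e',
      Subgroup.coe_subtype]
    group)
  exact this ▸ hz

/-- the isomorphism with the conjugate -/
theorem moveS_equiv {g : G} {R : Subgroup ↥(c.S : Subgroup G)} (hR : R ≤ c.coreS) :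
    ∃ e : ↥R ≃* ↥(c.moveS g R), ∀ x : ↥R, ((e x : ↥(c.S : Subgroup G)) : G) = g * (x : G) * g⁻¹ := by
  let f : ↥R →* ↥(c.moveS g R) :=
    { toFun := fun x => ⟨⟨g * (x : G) * g⁻¹, c.core_le (c.core_normal.conj_mem _ (hR x.2) g)⟩,
        mem_subgroupOf.2 ⟨((x : ↥(c.S : Subgroup G)) : G), ⟨x, x.2, rfl⟩, rfl⟩⟩
      map_one' := Subtype.ext (Subtype.ext (by simp))
      map_mul' := fun x y => Subtype.ext (Subtype.ext (by simp [mul_assoc])) }
  refine ⟨MulEquiv.ofBijective f ⟨fun x y h => ?_, fun y => ?_⟩, fun x => rfl⟩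
  · have h1 : g * (x : G) * g⁻¹ = g * (y : G) * g⁻¹ :=
      congrArg (fun z : ↥(c.moveS g R) => ((z : ↥(c.S : Subgroup G)) : G)) h
    exact Subtype.ext (Subtype.ext (by simpa using h1))
  · obtain ⟨_, ⟨z, hz, rfl⟩, e⟩ := mem_subgroupOf.1 y.2
    exact ⟨⟨z, hz⟩, Subtype.ext (Subtype.ext e)⟩

theorem moveS_cl {g : G} {R : Subgroup ↥(c.S : Subgroup G)} (hR : R ≤ c.coreS)
    (h : Cfsg.IsCentrallyLarge R) : Cfsg.IsCentrallyLarge (c.moveS g R) := by
  obtain ⟨e, -⟩ := c.moveS_equiv (g := g) hR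
  unfold Cfsg.IsCentrallyLarge at h ⊢
  rw [← h, Nat.card_congr e.toEquiv, Nat.card_congr (Subgroup.centerCongr e).toEquiv]

theorem moveS_mcl {g : G} {R : Subgroup ↥(c.S : Subgroup G)} (hR : R ≤ c.coreS)
    (h : Cfsg.IsMinimalCentrallyLarge R) : Cfsg.IsMinimalCentrallyLarge (c.moveS g R) := by
  refine ⟨c.moveS_cl hR h.1, fun R' hle hcl => eq_of_le_of_card_ge hle ?_⟩
  have hR' : R' ≤ c.coreS := hle.trans (c.moveS_le hR)
  have h1 := h.2 _ (c.moveS_inv hR hle) (c.moveS_cl hR' hcl)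
  obtain ⟨e, -⟩ := c.moveS_equiv (g := g⁻¹) hR'
  obtain ⟨e', -⟩ := c.moveS_equiv (g := g) hR
  rw [← Nat.card_congr e'.toEquiv, Nat.card_congr e.toEquiv, h1]

/-- a subgroup generated inside `O_p(G)` by images permuted by conjugation is normal -/
theorem normal_of_move {K : Subgroup ↥(c.S : Subgroup G)}
    (h : ∀ g : G, ∀ x ∈ K, g * (x : G) * g⁻¹ ∈ K.map (c.S : Subgroup G).subtype) :
    (K.map (c.S : Subgroup G).subtype).Normal :=
  ⟨by rintro _ ⟨x, hx, rfl⟩ g; exact h g x hx⟩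

theorem sSup_move (T : Set (Subgroup ↥(c.S : Subgroup G))) {K : Subgroup G}
    (h : ∀ g : G, ∀ R ∈ T, ∀ x ∈ R, g * (x : G) * g⁻¹ ∈ K) (g : G) :
    ∀ x ∈ sSup T, g * (x : G) * g⁻¹ ∈ K := by
  have : sSup T ≤ (K.comap (MulAut.conj g).toMonoidHom).comap (c.S : Subgroup G).subtype :=
    sSup_le fun R hR x hx => h g R hR x hx
  exact fun x hx => this hx

theorem mcl_join_normal
    (h : ∀ R, Cfsg.IsMinimalCentrallyLarge R → R ≤ c.coreS) :
    ((Cfsg.minimalCentrallyLargeJoin ↥(c.S : Subgroup G)).map (c.S : Subgroup G).subtype).Normal := by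
  refine c.normal_of_move fun g => c.sSup_move _ (fun g R hR x hx => ?_) g
  refine map_mono (le_sSup (c.moveS_mcl (g := g) (h R hR) hR)) ?_
  rw [c.moveS_map (h R hR)]
  exact ⟨_, ⟨x, hx, rfl⟩, rfl⟩

/-- `Ω₁(Z(R))` as the set of central elements of order dividing `p` -/
theorem mem_omega {H : Type u} [Group H] {R : Subgroup H} {x : H} :
    x ∈ Cfsg.omegaOneCenter p R ↔ x ∈ R ∧ x ∈ centralizer (R : Set H) ∧ x ^ p = 1 := by
  constructor
  · intro hx
    induction hx using Subgroup.closure_induction with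
    | mem y hy => exact ⟨hy.1.1, hy.1.2, hy.2⟩
    | one => exact ⟨one_mem _, one_mem _, one_pow _⟩
    | mul a b _ _ ha hb =>
      exact ⟨mul_mem ha.1 hb.1, mul_mem ha.2.1 hb.2.1, by
        rw [(show Commute a b from (mem_centralizer_iff.1 ha.2.1 b hb.1).symm).mul_pow, ha.2.2, hb.2.2,
          mul_one]⟩
    | inv a _ ha => exact ⟨inv_mem ha.1, inv_mem ha.2.1, by rw [inv_pow, ha.2.2, inv_one]⟩
  · exact fun ⟨h1, h2, h3⟩ => Subgroup.subset_closure ⟨⟨h1, h2⟩, h3⟩

theorem moveS_omega {g : G} {R : Subgroup ↥(c.S : Subgroup G)} (hR : R ≤ c.coreS) :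
    Nat.card ↥(Cfsg.omegaOneCenter p (c.moveS g R)) = Nat.card ↥(Cfsg.omegaOneCenter p R) := by
  obtain ⟨e, -⟩ := c.moveS_equiv (g := g) hR
  have key : ∀ X Y : Subgroup ↥(c.S : Subgroup G), ∀ f : ↥X ≃* ↥Y, ∀ x : ↥X,
      (x : ↥(c.S : Subgroup G)) ∈ Cfsg.omegaOneCenter p X →
      (f x : ↥(c.S : Subgroup G)) ∈ Cfsg.omegaOneCenter p Y := by
    intro X Y f x hx
    obtain ⟨-, h2, h3⟩ := mem_omega.1 hx
    refine mem_omega.2 ⟨(f x).2, mem_centralizer_iff.2 fun y hy => ?_, ?_⟩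
    · obtain ⟨z, hz⟩ := f.surjective ⟨y, hy⟩
      have hzx : z * x = x * z := Subtype.ext (mem_centralizer_iff.1 h2 z z.2)
      have := congrArg (fun w => ((f w : ↥Y) : ↥(c.S : Subgroup G))) hzx
      simpa [hz] using this
    · rw [← SubmonoidClass.coe_pow, ← map_pow, show x ^ p = 1 from Subtype.ext (by simpa using h3), map_one]
      rfl
  have hle : ∀ X Y : Subgroup ↥(c.S : Subgroup G), ∀ f : ↥X ≃* ↥Y,
      Nat.card ↥(Cfsg.omegaOneCenter p X) ≤ Nat.card ↥(Cfsg.omegaOneCenter p Y) := fun X Y f =>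
    Nat.card_le_card_of_injective
      (fun x => (⟨_, key X Y f ⟨x.1, (mem_omega.1 x.2).1⟩ x.2⟩ : Cfsg.omegaOneCenter p Y))
      fun a b hab => by
        have h1 := f.injective (Subtype.ext (congrArg (fun z : ↥(Cfsg.omegaOneCenter p Y) => (z : ↥(c.S : Subgroup G))) hab) :
          f ⟨a.1, (mem_omega.1 a.2).1⟩ = f ⟨b.1, (mem_omega.1 b.2).1⟩)
        exact Subtype.ext (congrArg (fun z : ↥X => (z : ↥(c.S : Subgroup G))) h1)
  exact le_antisymm (hle _ _ e.symm) (hle _ _ e)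

/-- every minimal centrally large subgroup with `Ω₁(Z(R))` largest has a companion inside `O_p(G)` -/
def HasCompanions : Prop :=
  ∀ R : Subgroup ↥(c.S : Subgroup G), Cfsg.IsMinimalCentrallyLarge R →
    Nat.card ↥(Cfsg.omegaOneCenter p R) = Cfsg.maxOmegaCenterOfMinimalCL p ↥(c.S : Subgroup G) →
      ∃ R₁, R₁ ≤ c.coreS ∧ Cfsg.IsMinimalCentrallyLarge R₁ ∧
        Nat.card ↥(Cfsg.omegaOneCenter p R₁) = Cfsg.maxOmegaCenterOfMinimalCL p ↥(c.S : Subgroup G) ∧
        (frattini ↥R₁).map R₁.subtype = (frattini ↥R).map R.subtype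

theorem frattini_join_normal (h : c.HasCompanions) :
    ((Cfsg.frattiniOfMinimalCLJoin p ↥(c.S : Subgroup G)).map (c.S : Subgroup G).subtype).Normal := by
  set P := ↥(c.S : Subgroup G)
  set J := Cfsg.frattiniOfMinimalCLJoin p P
  refine c.normal_of_move fun g => ?_
  have hJ : J ≤ ((J.map (c.S : Subgroup G).subtype).comap (MulAut.conj g).toMonoidHom).comap
      (c.S : Subgroup G).subtype := by
    refine iSup_le fun ⟨R, hR, hRm⟩ => ?_
    obtain ⟨R₁, h1, h2, h3, h4⟩ := h R hR hRm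
    rw [← h4]
    rintro _ ⟨x, hx, rfl⟩
    obtain ⟨e, he⟩ := c.moveS_equiv (g := g) h1
    have hx' : e x ∈ frattini ↥(c.moveS g R₁) := by
      have hp₁ := c.S.2.to_subgroup R₁
      have hle : frattini ↥R₁ ≤ (frattini ↥(c.moveS g R₁)).comap e.toMonoidHom := by
        refine Cfsg.Lib.PGroups.SpecialCoprime.frattini_le_of_elementary (p := p) _ (fun a => ?_) ?_
        · rw [mem_comap, map_pow]
          exact Cfsg.Lib.PGroups.pow_mem_frattini (c.S.2.to_subgroup _) _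
        · rw [_root_.commutator_def, commutator_le]
          intro a _ b _
          rw [mem_comap, map_commutatorElement]
          exact Cfsg.Lib.PGroups.commutator_le_frattini (c.S.2.to_subgroup _)
            (commutator_mem_commutator (mem_top _) (mem_top _))
      exact hle hx
    refine ⟨e x, ?_, he x⟩
    exact (le_iSup (fun Q : {Q : Subgroup P // Cfsg.IsMinimalCentrallyLarge Q ∧
      Nat.card ↥(Cfsg.omegaOneCenter p Q) = Cfsg.maxOmegaCenterOfMinimalCL p P} =>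
        (frattini ↥(Q : Subgroup P)).map (Q : Subgroup P).subtype)
      ⟨c.moveS g R₁, c.moveS_mcl h1 h2, (c.moveS_omega h1).trans h3⟩) ⟨e x, hx', rfl⟩
  exact fun x hx => hJ hx

variable {c}

namespace Case

variable {A : Subgroup G} (h : c.Case A)

include h

/-- in `S`: only the centre of `S` is centralised in `V` by an element outside `O_p(G)` -/
theorem mem_center_of_commute {x v : ↥(c.S : Subgroup G)} (hx : x ∉ c.coreS) (hv : (v : G) ∈ c.Vc)
    (hc : x * v = v * x) : v ∈ center ↥(c.S : Subgroup G) := by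
  obtain ⟨hV, hW, hWV, -⟩ := h.main
  haveI := h.W_normal
  have hb := c.elem_bound h.W h.W_elem h.W_cent x.2 hx
  have heq : h.W ⊓ c.Zs = h.W ⊓ centralizer ({(x : G)} : Set G) := by
    refine eq_of_le_of_card_ge (fun w hw => ⟨hw.1, mem_centralizer_singleton_iff.2 ?_⟩) ?_
    · exact (mem_centralizer_iff.1 hw.2.2 x x.2).symm
    · exact Nat.le_of_mul_le_mul_left (hb.trans hW.le) (pow_pos hp.out.pos _)
  haveI := c.Vc_comm
  have hn : c.Zs ≤ normalizer (h.W : Set G) := le_top.trans (normalizer_eq_top (H := h.W)).ge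
  have hv' : (v : G) ∈ h.W ⊔ c.Zs := hWV.ge hv
  obtain ⟨w, hw, z, hz, e⟩ := mem_sup_of_normal_left.1 hv'
  have hzx : Commute (x : G) z := mem_centralizer_iff.1 hz.2 x x.2
  have hwx : Commute (x : G) w := by
    have h1 : Commute (x : G) (w * z) := e ▸ congrArg Subtype.val hc
    simpa using h1.mul_right hzx.inv_right
  have hw' : w ∈ c.Zs := (heq.ge ⟨hw, mem_centralizer_singleton_iff.2 hwx.symm.eq⟩).2
  refine mem_center_iff.2 fun s => Subtype.ext ?_
  show (s : G) * v = v * s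
  rw [← e]
  exact ((show Commute (s : G) w from mem_centralizer_iff.1 hw'.2 s s.2).mul_right
    (mem_centralizer_iff.1 hz.2 s s.2)).eq

theorem exchange {R : Subgroup ↥(c.S : Subgroup G)} (hR : Cfsg.IsMinimalCentrallyLarge R)
    (hRQ : ¬ R ≤ c.coreS) :
    (∃ z ∈ centralizer (R : Set ↥(c.S : Subgroup G)), z ∉ c.coreS) ∧
      ∃ R₁, R₁ ≤ c.coreS ∧ Cfsg.IsMinimalCentrallyLarge R₁ ∧
        (Nat.card ↥(Cfsg.omegaOneCenter p R) = Cfsg.maxOmegaCenterOfMinimalCL p ↥(c.S : Subgroup G) →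
          Nat.card ↥(Cfsg.omegaOneCenter p R₁) = Cfsg.maxOmegaCenterOfMinimalCL p ↥(c.S : Subgroup G) ∧
          (frattini ↥R₁).map R₁.subtype = (frattini ↥R).map R.subtype) := by
  classical
  obtain ⟨hV, hW, hWV, -⟩ := h.main
  set P := ↥(c.S : Subgroup G)
  set D := c.coreS
  set V := c.Vc.subgroupOf (c.S : Subgroup G)
  set W := h.W.subgroupOf (c.S : Subgroup G)
  set C := center P
  set q := p ^ c.n
  have hq : 0 < q := pow_pos hp.out.pos _
  have hVS : c.Vc ≤ (c.S : Subgroup G) := (c.Vc_le.trans inf_le_left).trans c.core_le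
  have hWS : h.W ≤ (c.S : Subgroup G) := fun w hw => hVS hw.1
  have hVD : V ≤ D := fun x hx => (c.Vc_le hx).1
  have hDV : ∀ d ∈ D, ∀ v ∈ V, d * v = v * d := fun d hd v hv =>
    Subtype.ext (mem_centralizer_iff.1 (c.Vc_le hv).2 d hd)
  have hCmap : C.map (c.S : Subgroup G).subtype = c.Zs := by
    ext x
    refine ⟨?_, fun hx => ⟨⟨x, hx.1⟩, mem_center_iff.2 fun s => Subtype.ext
      (mem_centralizer_iff.1 hx.2 s s.2), rfl⟩⟩
    rintro ⟨z, hz, rfl⟩
    exact ⟨z.2, mem_centralizer_iff.2 fun s hs => congrArg Subtype.val (mem_center_iff.1 hz ⟨s, hs⟩)⟩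
  have hcardC : Nat.card C = Nat.card c.Zs := by
    rw [← hCmap]; exact (card_map_of_injective (c.S : Subgroup G).subtype_injective).symm
  have hcardV : Nat.card V = q * Nat.card C := by
    rw [hcardC, ← hV]; exact Nat.card_congr (subgroupOfEquivOfLe hVS).toEquiv
  have hcardW : Nat.card W = q * Nat.card ↥(W ⊓ C) := by
    rw [Nat.card_congr (subgroupOfEquivOfLe hWS).toEquiv, hW,
      ← card_map_of_injective (c.S : Subgroup G).subtype_injective (K := W ⊓ C),
      map_inf _ _ _ (c.S : Subgroup G).subtype_injective, map_subgroupOf_eq_of_le hWS, hCmap]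
  have hCD : C ≤ D := fun x hx => c.Zs_le_core (hCmap ▸ mem_map_of_mem _ hx)
  obtain ⟨hRl, hRc⟩ := Cfsg.Lib.CD.cl_iff.1 hR.1
  set Z := centralizer (R : Set P)
  have hf : Nat.card R * Nat.card Z = Cfsg.maxCentralProduct P := by
    rw [← hR.1, Cfsg.Lib.CD.card_center, inf_eq_right.2 hRc]
  have hC_Z : C ≤ Z := fun x hx => mem_centralizer_iff.2 fun r _ => mem_center_iff.1 hx r
  have hbd : ∀ X : Subgroup P, Nat.card X ≤ q * Nat.card ↥(X ⊓ D) := fun X => by
    rw [← card_map_of_injective (c.S : Subgroup G).subtype_injective (K := X),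
      ← card_map_of_injective (c.S : Subgroup G).subtype_injective (K := X ⊓ D),
      map_inf _ _ _ (c.S : Subgroup G).subtype_injective, map_subgroupOf_eq_of_le c.core_le]
    exact c.card_le _ (map_subtype_le _)
  obtain ⟨x₀, hx₀, hx₀D⟩ := SetLike.not_le_iff_exists.1 hRQ
  set R₂ := R ⊓ D
  -- the centre of `R` is not inside `O_p(G)`
  have hZD : ¬ Z ≤ D := by
    intro hZD
    have hVR : V ≤ R := by
      rw [(Cfsg.Lib.CD.large_centralizer hRl).2]
      exact fun v hv => mem_centralizer_iff.2 fun z hz => hDV z (hZD hz) v hv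
    have hle : Z ⊔ V ≤ R₂ ⊓ centralizer (R₂ : Set P) := by
      refine sup_le (le_inf (le_inf hRc hZD) (centralizer_le inf_le_left)) (le_inf (le_inf hVR hVD) ?_)
      exact fun v hv => mem_centralizer_iff.2 fun d hd => hDV d hd.2 v hv
    have hq' : q * Nat.card Z ≤ Nat.card ↥(Z ⊔ V) := by
      refine card_sup_lower hcardV.ge (card_le' fun v hv => ?_)
      exact h.mem_center_of_commute hx₀D hv.2 (mem_centralizer_iff.1 hv.1 x₀ hx₀)
    have hcl : Cfsg.IsCentrallyLarge R₂ := by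
      refine le_antisymm (by rw [Cfsg.Lib.CD.card_center]; exact Cfsg.Lib.CD.center_prod_le R₂) ?_
      rw [← hf, Cfsg.Lib.CD.card_center]
      calc Nat.card R * Nat.card Z ≤ q * Nat.card R₂ * Nat.card Z := Nat.mul_le_mul_right _ (hbd R)
        _ = Nat.card R₂ * (q * Nat.card Z) := by ring
        _ ≤ _ := Nat.mul_le_mul_left _ (hq'.trans (card_le' hle))
    exact hRQ ((hR.2 R₂ inf_le_left hcl).ge.trans inf_le_right)
  obtain ⟨z₀, hz₀, hz₀D⟩ := SetLike.not_le_iff_exists.1 hZD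
  refine ⟨⟨z₀, hz₀, hz₀D⟩, ?_⟩
  have hRV : R ⊓ V ≤ C := fun v hv =>
    h.mem_center_of_commute hz₀D hv.2 (mem_centralizer_iff.1 hz₀ v hv.1).symm
  set Z₂ := Z ⊓ D
  set R₁ := R₂ ⊔ V
  set Z₁ := Z₂ ⊔ V
  have hcardR₁ : q * Nat.card R₂ ≤ Nat.card R₁ :=
    card_sup_lower hcardV.ge (card_le' fun v hv => hRV ⟨hv.1.1, hv.2⟩)
  have hcardZ₁ : q * Nat.card Z₂ ≤ Nat.card Z₁ :=
    card_sup_lower hcardV.ge (card_le' fun v hv => hRV ⟨hRc hv.1.1, hv.2⟩)
  have hR₁D : R₁ ≤ D := sup_le inf_le_right hVD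
  have hZ₁le : Z₁ ≤ R₁ ⊓ centralizer (R₁ : Set P) := by
    refine le_inf (sup_le_sup_right (inf_le_inf_right D hRc) V) ?_
    rw [Cfsg.Lib.CD.centralizer_sup]
    refine sup_le (le_inf (inf_le_left.trans (centralizer_le inf_le_left)) fun z hz => ?_) (le_inf ?_ ?_)
    · exact mem_centralizer_iff.2 fun v hv => (hDV z hz.2 v hv).symm
    · exact fun v hv => mem_centralizer_iff.2 fun d hd => hDV d hd.2 v hv
    · exact fun v hv => mem_centralizer_iff.2 fun d hd => hDV d (hVD hd) v hv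
  have hcl₁ : Cfsg.IsCentrallyLarge R₁ := by
    refine le_antisymm (by rw [Cfsg.Lib.CD.card_center]; exact Cfsg.Lib.CD.center_prod_le R₁) ?_
    rw [← hf, Cfsg.Lib.CD.card_center]
    exact Nat.mul_le_mul ((hbd R).trans hcardR₁)
      (((hbd Z).trans hcardZ₁).trans (card_le' hZ₁le))
  have heqR : Nat.card R₁ = Nat.card R ∧ Nat.card R = q * Nat.card R₂ := by
    have h1 := Cfsg.Lib.CD.center_prod_le R₁
    have h2 : Nat.card R₁ * Nat.card Z ≤ Nat.card R * Nat.card Z := by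
      rw [hf]
      exact (Nat.mul_le_mul_left _ (((hbd Z).trans hcardZ₁).trans (card_le' hZ₁le))).trans h1
    have h3 := Nat.le_of_mul_le_mul_right h2 Nat.card_pos
    exact ⟨le_antisymm h3 ((hbd R).trans hcardR₁), le_antisymm (hbd R) (hcardR₁.trans h3)⟩
  have hmcl₁ : Cfsg.IsMinimalCentrallyLarge R₁ := by
    obtain ⟨R₀, hR₀, hR₀m⟩ := Cfsg.Lib.CD.exists_mcl hcl₁
    have := eq_of_le_of_card_ge hR₀ (by rw [heqR.1, (Cfsg.Lib.CD.mcl_card hR₀m hR).2.1])
    rwa [← this]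
  refine ⟨R₁, hR₁D, hmcl₁, fun hmax => ?_⟩
  set O := Cfsg.omegaOneCenter p R
  set O₂ := O ⊓ D
  have hOR : O ≤ R := fun x hx => (mem_omega.1 hx).1
  have hO₂ : q * Nat.card O₂ ≤ Nat.card ↥(O₂ ⊔ W) := by
    refine card_sup_lower hcardW.ge (card_le' fun w hw => ⟨hw.2, ?_⟩)
    exact hRV ⟨hOR hw.1.1, hw.2.1⟩
  have hO₁ : O₂ ⊔ W ≤ Cfsg.omegaOneCenter p R₁ := by
    refine sup_le (fun x hx => ?_) fun w hw => ?_
    · obtain ⟨h1, h2, h3⟩ := mem_omega.1 hx.1
      obtain ⟨h4, h5⟩ := mem_inf.1 (hZ₁le (mem_sup_left ⟨h2, hx.2⟩))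
      exact mem_omega.2 ⟨h4, h5, h3⟩
    · obtain ⟨h4, h5⟩ := mem_inf.1 (hZ₁le (mem_sup_right hw.1))
      exact mem_omega.2 ⟨h4, h5, Subtype.ext (by simpa using hw.2)⟩
  have hmz : Nat.card ↥(Cfsg.omegaOneCenter p R₁) ≤ Cfsg.maxOmegaCenterOfMinimalCL p P :=
    le_csSup ((Set.finite_range fun Q : Subgroup P => Nat.card ↥(Cfsg.omegaOneCenter p Q)).subset
      (by rintro k ⟨Q, -, rfl⟩; exact ⟨Q, rfl⟩)).bddAbove ⟨R₁, hmcl₁, rfl⟩
  have hO : Nat.card O = q * Nat.card O₂ := le_antisymm (hbd O)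
    (((hO₂.trans (card_le' hO₁)).trans hmz).trans hmax.ge)
  refine ⟨le_antisymm hmz (hmax ▸ hO.le.trans (hO₂.trans (card_le' hO₁))), ?_⟩
  have e1 : R₂ ⊔ O = R := by
    refine eq_of_le_of_card_ge (sup_le inf_le_left hOR) ?_
    rw [heqR.2]
    exact card_sup_lower hO.ge (card_le' fun x hx => ⟨hx.2, hx.1.2⟩)
  have e2 : R₂ ⊔ W = R₁ := by
    refine le_antisymm (sup_le_sup_left (fun w hw => hw.1) _) (sup_le le_sup_left fun v hv => ?_)
    obtain ⟨w, hw, z, hz, e⟩ : ∃ w ∈ h.W, ∃ z ∈ c.Zs, w * z = (v : G) := by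
      haveI := h.W_normal
      exact mem_sup_of_normal_left.1 (hWV.ge hv)
    rw [show v = ⟨w, hWS hw⟩ * ⟨z, hz.1⟩ from Subtype.ext e.symm]
    have hzC : (⟨z, hz.1⟩ : P) ∈ C := mem_center_iff.2 fun s => Subtype.ext
      (mem_centralizer_iff.1 hz.2 s s.2)
    exact mul_mem (mem_sup_right hw) (mem_sup_left ⟨hRc (hC_Z hzC), hCD hzC⟩)
  have f1 := frattini_sup c.S.2 (H := R₂) (E := O) (fun x hx => (mem_omega.1 hx).2.2)
    (fun x hx => e1.symm ▸ (mem_omega.1 hx).2.1)
  have f2 := frattini_sup c.S.2 (H := R₂) (E := W) (fun x hx => Subtype.ext (by simpa using hx.2))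
    (fun x hx => e2.symm ▸ (mem_inf.1 (hZ₁le (mem_sup_right hx.1))).2)
  rw [e1] at f1
  rw [e2] at f2
  rw [f1, f2]

end Case

/-- the trichotomy when `S` centralises `Z(J(S))` -/
theorem cases' (hJ : (c.S : Subgroup G) ≤ centralizer (c.Zj : Set G)) :
    c.Zs ≤ center G ∨ (∀ R : Subgroup ↥(c.S : Subgroup G), R ≤ c.coreS) ∨ ∃ A, c.Case A := by
  rcases c.cases with h | h | h
  · exact Or.inl h
  · refine Or.inr (Or.inl fun R x _ => ?_)
    rw [inf_eq_left.2 hJ] at h
    haveI := h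
    exact c.le_core c.S.2 x.2
  · exact Or.inr (Or.inr h)

theorem derived_or (hJ : (c.S : Subgroup G) ≤ centralizer (c.Zj : Set G)) (Q : Subgroup ↥(c.S : Subgroup G))
    (hQ : Cfsg.IsMinimalCentrallyLarge Q) :
    (c.Zs ⊓ (⁅Q, Q⁆).map (c.S : Subgroup G).subtype).Normal ∨
      ((Cfsg.minimalCentrallyLargeJoin ↥(c.S : Subgroup G)).map (c.S : Subgroup G).subtype).Normal := by
  rcases cases' hJ with h | h | ⟨A, h⟩
  · exact Or.inl (normal_of_le_center' (inf_le_left.trans h))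
  · exact Or.inr (c.mcl_join_normal fun R _ => h R)
  by_cases hall : ∀ R, Cfsg.IsMinimalCentrallyLarge R → R ≤ c.coreS
  · exact Or.inr (c.mcl_join_normal hall)
  push Not at hall
  obtain ⟨R, hR, hRQ⟩ := hall
  obtain ⟨⟨z₀, hz₀, hz₀D⟩, R₁, hR₁, hR₁m, -⟩ := h.exchange hR hRQ
  left
  set K := (⁅Q, Q⁆).map (c.S : Subgroup G).subtype
  have hKn : K.Normal := by
    refine c.normal_of_move fun g x hx => ?_
    rw [(Cfsg.Lib.CD.mcl_card hQ hR₁m).1] at hx
    show _ ∈ K
    have e : K = ((⁅c.moveS g R₁, c.moveS g R₁⁆).map (c.S : Subgroup G).subtype) := by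
      show (⁅Q, Q⁆).map _ = _
      rw [(Cfsg.Lib.CD.mcl_card hQ (c.moveS_mcl hR₁ hR₁m)).1]
    rw [e, map_commutator, c.moveS_map hR₁, ← map_commutator, ← map_commutator]
    exact ⟨_, ⟨x, hx, rfl⟩, rfl⟩
  have hz₀C : (z₀ : G) ∈ centralizer (K : Set G) := by
    refine mem_centralizer_iff.2 ?_
    rintro _ ⟨x, hx, rfl⟩
    rw [(Cfsg.Lib.CD.mcl_card hQ hR).1] at hx
    exact congrArg Subtype.val (mem_centralizer_iff.1 hz₀ x (Subgroup.commutator_le_self R hx))
  haveI := hKn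
  haveI : (centralizer (K : Set G)).Normal := inferInstance
  have hne : ¬ centralizer (K : Set G) ≤ c.M := fun hle =>
    hz₀D (c.inf_le_core _ hle ⟨z₀.2, hz₀C⟩)
  refine normal_of_le_center' fun z hz => c.central_of_le hne (fun g hg => ?_) fun g hg => ?_
  · exact (mem_centralizer_iff.1 hg z hz.2).symm
  · exact mem_centralizer_iff.1 hz.1.2 g hg

theorem frattini_or (hJ : (c.S : Subgroup G) ≤ centralizer (c.Zj : Set G)) :
    c.Zs.Normal ∨
      ((Cfsg.frattiniOfMinimalCLJoin p ↥(c.S : Subgroup G)).map (c.S : Subgroup G).subtype).Normal := by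
  rcases cases' hJ with h | h | ⟨A, h⟩
  · exact Or.inl (normal_of_le_center' h)
  · exact Or.inr (c.frattini_join_normal fun R hR hm => ⟨R, h R, hR, hm, rfl⟩)
  refine Or.inr (c.frattini_join_normal fun R hR hm => ?_)
  by_cases hRQ : R ≤ c.coreS
  · exact ⟨R, hRQ, hR, hm, rfl⟩
  obtain ⟨-, R₁, h1, h2, h3⟩ := h.exchange hR hRQ
  exact ⟨R₁, h1, h2, h3 hm⟩

end Ctx

end Cfsg.Lib.PushUp
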