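import Cfsg.Agent.PushUp.Bound
import Cfsg.Agent.Fusion.ThompsonControl
import Cfsg.Agent.Components.ZJ.Reduce
import Cfsg.Agent.PGroups.Basic
import Cfsg.Agent.Thompson.ElemToolkit

/-!
The situation of the pushing-up theorems: a unique maximal subgroup over a Sylow `p`-subgroup and a quotient
`PSL(2, q)`.
-/

set_option autoImplicit false
set_option linter.style.haveILetI false
set_option linter.unusedSectionVars false

namespace Cfsg.Lib.PushUp

open Subgroup
open scoped commutatorElement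

universe u v

/-- the hypotheses -/
structure Ctx (p : ℕ) (G : Type u) [Group G] (F : Type v) [Field F] [Fintype F] where
  S : Sylow p G
  M : Subgroup G
  hMne : M ≠ ⊤
  le_M : ∀ X : Subgroup G, X ≠ ⊤ → (S : Subgroup G) ≤ X → X ≤ M
  hc : centralizer (Cfsg.pCore p G : Set G) ≤ Cfsg.pCore p G
  ψ : G →* Matrix.ProjectiveSpecialLinearGroup (Fin 2) F
  hψ : Function.Surjective ψ
  n : ℕ
  hn : 1 ≤ n
  hF : Fintype.card F = p ^ n

variable {p : ℕ} [hp : Fact p.Prime] {G : Type u} [Group G] [Finite G] {F : Type v} [Field F] [Fintype F]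

theorem exists_ctx (S : Sylow p G) (hE₁ : centralizer (Cfsg.pCore p G : Set G) ≤ Cfsg.pCore p G)
    (hE₂ : ∃! M : Subgroup G, IsCoatom M ∧ (S : Subgroup G) ≤ M) (K : Subgroup G) [K.Normal] (n : ℕ)
    (hn : 1 ≤ n) (hF : Fintype.card F = p ^ n)
    (hE₃ : Nonempty (G ⧸ K ≃* Matrix.ProjectiveSpecialLinearGroup (Fin 2) F)) :
    ∃ c : Ctx p G F, c.S = S := by
  obtain ⟨M, ⟨hM, hSM⟩, huniq⟩ := hE₂
  obtain ⟨e⟩ := hE₃
  refine ⟨{ S := S, M := M, hMne := hM.ne_top, le_M := fun X hX hSX => ?_, hc := hE₁,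
            ψ := e.toMonoidHom.comp (QuotientGroup.mk' K),
            hψ := e.surjective.comp (QuotientGroup.mk'_surjective K), n := n, hn := hn, hF := hF }, rfl⟩
  obtain ⟨C, hC, hXC⟩ := (eq_top_or_exists_le_coatom X).resolve_left hX
  exact huniq C ⟨hC, hSX.trans hXC⟩ ▸ hXC

theorem card_mul_le (N M : Subgroup G) :
    Nat.card N * Nat.card M ≤ Nat.card (N ⊔ M : Subgroup G) * Nat.card (N ⊓ M : Subgroup G) := by
  have h1 : ∀ (P L : Subgroup G), Nat.card (P ⊓ L : Subgroup G) * P.relIndex L = Nat.card L := fun P L => by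
    rw [← inf_relIndex_right P L, mul_comm]
    exact relIndex_mul_card inf_le_right
  have h2 : N.relIndex M ≤ N.relIndex (N ⊔ M) := by
    rcases Nat.eq_zero_or_pos (N.relIndex (N ⊔ M)) with h | h
    · exact absurd h index_ne_zero_of_finite
    · exact relIndex_le_of_le_right le_sup_right h.ne'
  have h3 := h1 N (N ⊔ M)
  rw [inf_of_le_left (le_sup_left : N ≤ N ⊔ M)] at h3
  calc Nat.card N * Nat.card M = Nat.card N * N.relIndex M * Nat.card (N ⊓ M : Subgroup G) := by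
        rw [mul_assoc, mul_comm (N.relIndex M), h1]
    _ ≤ Nat.card N * N.relIndex (N ⊔ M) * Nat.card (N ⊓ M : Subgroup G) :=
        Nat.mul_le_mul_right _ (Nat.mul_le_mul_left _ h2)
    _ = _ := by rw [h3]

namespace Ctx

variable (c : Ctx p G F)

include c

theorem core_normal : (Cfsg.pCore p G).Normal := (Cfsg.Lib.Components.pCore_normal_and_isPGroup p).1

theorem core_le : Cfsg.pCore p G ≤ (c.S : Subgroup G) := by
  haveI := c.core_normal
  exact Cfsg.Lib.Thompson.le_sylow_of_normal (Cfsg.Lib.Components.pCore_normal_and_isPGroup p).2 c.S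

theorem le_core {R : Subgroup G} [R.Normal] (hR : IsPGroup p R) : R ≤ Cfsg.pCore p G :=
  Cfsg.Lib.Components.le_pCore hR

/-- an intersection with a normal subgroup in the maximal subgroup -/
theorem inf_le_core (N : Subgroup G) [N.Normal] (hN : N ≤ c.M) : (c.S : Subgroup G) ⊓ N ≤ Cfsg.pCore p G := by
  haveI : ((c.S : Subgroup G) ⊓ N).Normal := by
    rw [← normalizer_eq_top_iff]
    by_contra hne
    refine c.hMne (top_le_iff.1 ?_)
    rw [← Cfsg.Lib.ZJ.sup_normalizer_inf_eq_top N c.S]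
    exact sup_le hN (c.le_M _ hne (Cfsg.Lib.Coprime.le_normalizer_inf le_normalizer
      (le_top.trans (normalizer_eq_top (H := N)).ge)))
  exact c.le_core (c.S.2.to_le inf_le_left)

theorem sup_eq_top {N : Subgroup G} [N.Normal] (hN : ¬ N ≤ c.M) : N ⊔ (c.S : Subgroup G) = ⊤ :=
  by_contra fun h => hN (le_sup_left.trans (c.le_M _ h le_sup_right))

theorem closure_not_le {T : Subgroup G} (hTS : T ≤ (c.S : Subgroup G)) (hT : ¬ T ≤ Cfsg.pCore p G) :
    ¬ normalClosure (T : Set G) ≤ c.M := fun h =>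
  hT ((le_inf hTS Subgroup.le_normalClosure).trans (c.inf_le_core _ h))

theorem p_le_q : p ≤ p ^ c.n := Nat.le_self_pow (Nat.one_le_iff_ne_zero.1 c.hn) p

theorem image_card (A : Subgroup G) (hA : A ≤ (c.S : Subgroup G)) : Nat.card (A.map c.ψ) ≤ p ^ c.n := by
  obtain ⟨i, hi⟩ := ((c.S.2.to_le hA).map c.ψ).exists_card_eq
  rw [hi]
  refine Nat.pow_le_pow_right hp.out.pos (le_trans ?_ (Cfsg.Lib.Components.IndexBound.factorization_psl c.hF))
  exact (hp.out.pow_dvd_iff_le_factorization Nat.card_pos.ne').1 (hi ▸ card_subgroup_dvd_card _)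

theorem ker_le : c.ψ.ker ≤ c.M := by
  refine le_sup_left.trans (c.le_M _ (fun h => ?_) (le_sup_right (b := (c.S : Subgroup G))))
  have h1 : (c.S : Subgroup G).map c.ψ = ⊤ := by
    rw [← map_top_of_surjective c.ψ c.hψ, ← h, Subgroup.map_sup, (Subgroup.map_eq_bot_iff _).2 le_rfl, bot_sup_eq]
  have h2 := c.image_card _ le_rfl
  rw [h1, card_top] at h2
  have h3 := Cfsg.Lib.Classical.SmallPSL.card_psl c.hF
  have hq : 2 ≤ p ^ c.n := le_trans hp.out.two_le c.p_le_q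
  have h4 : Nat.gcd 2 (p ^ c.n - 1) ≤ 2 := Nat.le_of_dvd two_pos (Nat.gcd_dvd_left _ _)
  have h5 := h3.symm.le.trans (Nat.mul_le_mul h4 h2)
  have h6 : (p ^ c.n) ^ 2 - 1 ≤ 2 := Nat.le_of_mul_le_mul_left (by linarith) (by omega : 0 < p ^ c.n)
  have h7 : 4 ≤ (p ^ c.n) ^ 2 := by nlinarith
  omega

theorem inf_ker_le : (c.S : Subgroup G) ⊓ c.ψ.ker ≤ Cfsg.pCore p G := c.inf_le_core _ c.ker_le

theorem simple (hn : 2 ≤ c.n) : IsSimpleGroup (Matrix.ProjectiveSpecialLinearGroup (Fin 2) F) := by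
  refine Matrix.ProjectiveSpecialLinearGroup.rank_two_simple ?_
  rw [Nat.card_eq_fintype_card, c.hF]
  calc 4 = 2 ^ 2 := by norm_num
    _ ≤ p ^ 2 := Nat.pow_le_pow_left hp.out.two_le 2
    _ ≤ p ^ c.n := Nat.pow_le_pow_right hp.out.pos hn

theorem le_ker (hn : 2 ≤ c.n) (N : Subgroup G) [hN : N.Normal] (hNM : N ≤ c.M) : N ≤ c.ψ.ker := by
  haveI := c.simple hn
  rcases (hN.map c.ψ c.hψ).eq_bot_or_eq_top with h | h
  · exact (Subgroup.map_eq_bot_iff _).1 h
  · refine absurd (top_le_iff.1 ?_) c.hMne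
    rw [← comap_top c.ψ, ← h, comap_map_eq]
    exact sup_le hNM c.ker_le

theorem card_le (A : Subgroup G) (hA : A ≤ (c.S : Subgroup G)) :
    Nat.card A ≤ p ^ c.n * Nat.card ↥(A ⊓ Cfsg.pCore p G) := by
  rw [Cfsg.Lib.FF.card_eq_map_mul c.ψ A]
  exact Nat.mul_le_mul (c.image_card A hA) (Nat.card_mono (Set.toFinite _)
    (fun x hx => ⟨hx.1, c.inf_ker_le ⟨hA hx.1, hx.2⟩⟩))

theorem le_sup_of_card (A : Subgroup G) (hA : A ≤ (c.S : Subgroup G))
    (hcard : Nat.card A = p ^ c.n * Nat.card ↥(A ⊓ Cfsg.pCore p G)) :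
    (c.S : Subgroup G) ≤ A ⊔ Cfsg.pCore p G := by
  have h1 : Nat.card ↥(A ⊓ c.ψ.ker) ≤ Nat.card ↥(A ⊓ Cfsg.pCore p G) :=
    Nat.card_mono (Set.toFinite _) (fun x hx => ⟨hx.1, c.inf_ker_le ⟨hA hx.1, hx.2⟩⟩)
  have h2 : p ^ c.n ≤ Nat.card (A.map c.ψ) := Nat.le_of_mul_le_mul_right
    (hcard.symm.le.trans ((Cfsg.Lib.FF.card_eq_map_mul c.ψ A).le.trans (Nat.mul_le_mul_left _ h1))) Nat.card_pos
  have h3 : A.map c.ψ = (c.S : Subgroup G).map c.ψ :=
    Subgroup.eq_of_le_of_card_ge (map_mono hA) ((c.image_card _ le_rfl).trans h2)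
  intro s hs
  obtain ⟨a, ha, e⟩ := h3.ge (mem_map_of_mem c.ψ hs)
  rw [show s = a * (a⁻¹ * s) by group]
  exact mul_mem (mem_sup_left ha) (mem_sup_right (c.inf_ker_le (mem_inf.2 ⟨mul_mem (inv_mem (hA ha)) hs,
    MonoidHom.mem_ker.2 (by rw [map_mul, map_inv, e, inv_mul_cancel])⟩)))

theorem mem_of_coprime {N : Subgroup G} [N.Normal] (hN : ¬ N ≤ c.M) {g : G} (hg : (orderOf g).Coprime p) :
    g ∈ N := by
  have h1 : (c.S : Subgroup G).map (QuotientGroup.mk' N) = ⊤ := by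
    rw [← map_top_of_surjective _ (QuotientGroup.mk'_surjective N), ← c.sup_eq_top hN, Subgroup.map_sup,
      QuotientGroup.map_mk'_self, bot_sup_eq]
  have h2 : IsPGroup p (⊤ : Subgroup (G ⧸ N)) := h1 ▸ c.S.2.map _
  obtain ⟨k, hk⟩ := IsPGroup.iff_orderOf.1 h2 ⟨(g : G ⧸ N), mem_top _⟩
  rw [Subgroup.orderOf_mk] at hk
  have h3 : orderOf (g : G ⧸ N) ∣ orderOf g := orderOf_map_dvd (QuotientGroup.mk' N) g
  rw [hk] at h3
  have h4 : p ^ k = 1 := Nat.eq_one_of_dvd_coprimes (hg.pow_right k) h3 dvd_rfl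
  rw [← QuotientGroup.eq_one_iff, ← orderOf_eq_one_iff, hk, h4]

theorem central_of_le {N : Subgroup G} [N.Normal] (hN : ¬ N ≤ c.M) {z : G} (h1 : ∀ g ∈ N, g * z = z * g)
    (h2 : ∀ g ∈ (c.S : Subgroup G), g * z = z * g) : z ∈ center G := by
  refine mem_center_iff.2 fun g => ?_
  have h : N ⊔ (c.S : Subgroup G) ≤ centralizer ({z} : Set G) :=
    sup_le (fun x hx => mem_centralizer_singleton_iff.2 (h1 x hx))
      (fun x hx => mem_centralizer_singleton_iff.2 (h2 x hx))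
  rw [c.sup_eq_top hN] at h
  exact mem_centralizer_singleton_iff.1 (h (mem_top g))

/-- the bound for an element outside the core -/
theorem elem_bound (W : Subgroup G) [W.Normal] (hW : Cfsg.IsElementaryAbelian p W)
    (hC : centralizer (W : Set G) ≤ c.M) {a : G} (ha : a ∈ (c.S : Subgroup G)) (haQ : a ∉ Cfsg.pCore p G) :
    p ^ c.n * Nat.card ↥(W ⊓ centralizer ({a} : Set G)) ≤ Nat.card W := by
  rcases Nat.lt_or_ge c.n 2 with hn | hn
  · have hn1 : c.n = 1 := le_antisymm (by omega) c.hn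
    rw [hn1, pow_one]
    have hWp : IsPGroup p W := fun v => ⟨1, by rw [pow_one]; exact Subtype.ext (hW.2 v v.2)⟩
    obtain ⟨j, hj⟩ := hWp.exists_card_eq
    obtain ⟨i, hi⟩ := (hWp.to_le (inf_le_left : W ⊓ centralizer ({a} : Set G) ≤ W)).exists_card_eq
    rw [hi, hj, ← pow_succ']
    refine Nat.pow_le_pow_right hp.out.pos (Nat.succ_le_of_lt ?_)
    by_contra hle
    rw [not_lt] at hle
    have heq : W ⊓ centralizer ({a} : Set G) = W :=
      Subgroup.eq_of_le_of_card_ge inf_le_left (by rw [hi, hj]; exact Nat.pow_le_pow_right hp.out.pos hle)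
    refine haQ (c.inf_le_core _ hC ⟨ha, mem_centralizer_iff.2 fun w hw => ?_⟩)
    exact mem_centralizer_singleton_iff.1 (mem_inf.1 (heq.symm ▸ hw : w ∈ W ⊓ centralizer ({a} : Set G))).2
  · refine (moved_bound c.hF hn W hW c.ψ c.hψ (c.le_ker hn _ hC) a ?_ ?_).1
    · obtain ⟨j, hj⟩ := IsPGroup.iff_orderOf.1 c.S.2 ⟨a, ha⟩
      exact ⟨j, by rwa [Subgroup.orderOf_mk] at hj⟩
    · exact fun h => haQ (c.inf_ker_le ⟨ha, h⟩)

/-- the bound for a quotient of a normal subgroup -/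
theorem quot_bound (W W₀ : Subgroup G) [W.Normal] [W₀.Normal] (hW : Cfsg.IsElementaryAbelian p W)
    (hWS : W ≤ (c.S : Subgroup G)) (h0 : W₀ ≤ W) (h0M : W₀ ≤ c.M)
    (hK : (centralizer (W.map (QuotientGroup.mk' W₀) : Set (G ⧸ W₀))).comap (QuotientGroup.mk' W₀) ≤ c.M)
    {a : G} (ha : a ∈ (c.S : Subgroup G)) (haQ : a ∉ Cfsg.pCore p G) :
    (p ^ c.n) ^ 2 * Nat.card W₀ ≤ Nat.card W := by
  set π := QuotientGroup.mk' W₀
  set B := W.map π
  haveI hBn : B.Normal := (inferInstance : W.Normal).map _ (QuotientGroup.mk'_surjective W₀)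
  haveI : (centralizer (B : Set (G ⧸ W₀))).Normal := inferInstance
  haveI : ((centralizer (B : Set (G ⧸ W₀))).comap π).Normal := inferInstance
  have hBel : Cfsg.IsElementaryAbelian p B := by
    refine ⟨⟨⟨?_⟩⟩, ?_⟩
    · rintro ⟨_, x, hx, rfl⟩ ⟨_, y, hy, rfl⟩
      refine Subtype.ext ?_
      show π x * π y = π y * π x
      rw [← map_mul, ← map_mul, show x * y = y * x from congrArg Subtype.val (hW.1.is_comm.comm ⟨x, hx⟩ ⟨y, hy⟩)]
    · rintro _ ⟨x, hx, rfl⟩
      rw [← map_pow, hW.2 x hx, map_one]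
  have hcard : Nat.card W = Nat.card B * Nat.card W₀ := by
    rw [Cfsg.Lib.FF.card_eq_map_mul π W, QuotientGroup.ker_mk', inf_eq_right.2 h0]
  rw [hcard]
  refine Nat.mul_le_mul_right _ ?_
  rcases Nat.lt_or_ge c.n 2 with hn | hn
  · have hn1 : c.n = 1 := le_antisymm (by omega) c.hn
    rw [hn1, pow_one]
    have hBp : IsPGroup p B := ((c.S.2.to_le hWS)).map π
    obtain ⟨j, hj⟩ := hBp.exists_card_eq
    rw [hj]
    refine Nat.pow_le_pow_right hp.out.pos ?_
    by_contra hlt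
    refine haQ (c.inf_le_core _ hK ⟨ha, mem_comap.2 (mem_centralizer_iff.2 fun b hb => ?_)⟩)
    rcases Nat.lt_or_ge j 1 with h1 | h1
    · have : B = ⊥ := by rw [← Subgroup.card_eq_one, hj, Nat.lt_one_iff.1 h1, pow_zero]
      rw [this] at hb
      rw [mem_bot.1 hb, one_mul, mul_one]
    · have hj1 : j = 1 := by omega
      set T := (c.S : Subgroup G).map π
      have hBT : B ≤ T := map_mono hWS
      have hcen := Cfsg.Lib.PGroups.le_center_of_card_eq_prime (P := T) (c.S.2.map π) (N := B.subgroupOf T)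
        (by rw [Nat.card_congr (subgroupOfEquivOfLe hBT).toEquiv, hj, hj1, pow_one])
      have := mem_center_iff.1 (hcen (x := ⟨b, hBT hb⟩) hb) ⟨π a, mem_map_of_mem π ha⟩
      exact (congrArg Subtype.val this).symm
  · have h0k : W₀ ≤ c.ψ.ker := c.le_ker hn W₀ h0M
    let ψ' := QuotientGroup.lift W₀ c.ψ h0k
    have hψ' : Function.Surjective ψ' := fun y => by
      obtain ⟨g, rfl⟩ := c.hψ y
      exact ⟨π g, rfl⟩
    have hC' : centralizer (B : Set (G ⧸ W₀)) ≤ ψ'.ker := by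
      intro y hy
      obtain ⟨g, rfl⟩ := QuotientGroup.mk'_surjective W₀ y
      exact c.le_ker hn _ hK (mem_comap.2 hy)
    rw [← pow_mul, mul_comm c.n 2]
    refine (moved_bound c.hF hn B hBel ψ' hψ' hC' (π a) ?_ ?_).2
    · obtain ⟨j, hj⟩ := IsPGroup.iff_orderOf.1 c.S.2 ⟨a, ha⟩
      rw [Subgroup.orderOf_mk] at hj
      obtain ⟨i, -, hi⟩ := (Nat.dvd_prime_pow hp.out).1 (hj ▸ orderOf_map_dvd π a)
      exact ⟨i, hi⟩
    · exact fun h => haQ (c.inf_ker_le ⟨ha, h⟩)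

end Ctx

end Cfsg.Lib.PushUp
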